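import Cfsg.Agent.Lib.Helper12.SU3S.Main

/-!
The field of `q^2` elements, `q` an odd prime for which two is not a square: a square root of two and the
automorphism of order two (helper12).
-/

set_option autoImplicit false

namespace Cfsg.Agent.Lib.Helper12.SU3S

open Cfsg.Agent.Lib.Helper12.PSU3S Cfsg.Agent.Lib.Helper25.SU3P

theorem odd_field_data {F : Type*} [Field F] [Fintype F] {q : ℕ} (hqp : q.Prime) (hq2 : q ≠ 2)
    (hF : Fintype.card F = q ^ 2) (k h m : ℕ) (hk : 2 ^ (q ^ 2 / 2) = 1 + q * k) (hqh : q = 2 * h + 1)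
    (hm : 2 ^ h + 1 = q * m) :
    ∃ r : F, r * r = ((0 : ℕ) : F) * r + ((2 : ℕ) : F) ∧ r ^ q = ((0 : ℕ) : F) - r ∧
      ((0 : ℕ) : F) - r ≠ r := by
  have hcp : CharP F q := charP_of_card hqp (by norm_num) hF
  have hq : (q : F) = 0 := CharP.cast_eq_zero F q
  obtain ⟨r, hr⟩ := exists_sqrt_two hqp hq2 hF k hk
  have h2 : ((2 : ℕ) : F) ≠ 0 := by
    intro h0
    have h3 := (CharP.cast_eq_zero_iff F q 2).mp h0
    rcases (Nat.dvd_prime Nat.prime_two).mp h3 with h4 | h4
    · exact hqp.one_lt.ne' h4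
    · exact hq2 h4
  refine ⟨r, ?_, ?_, ?_⟩
  · rw [hr, Nat.cast_zero, zero_mul, zero_add]
  · rw [frob_sqrt h m hqh hm hq hr, Nat.cast_zero, zero_sub]
  · rw [Nat.cast_zero, zero_sub]
    intro h0
    have h3 : ((2 : ℕ) : F) * r = 0 := by
      rw [Nat.cast_ofNat]
      linear_combination -h0
    rcases mul_eq_zero.mp h3 with h4 | h4
    · exact h2 h4
    · rw [h4, mul_zero] at hr
      exact h2 hr.symm

end Cfsg.Agent.Lib.Helper12.SU3S
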