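import Cfsg.Agent.Lib.Helper12.SU3S.Q3
import Cfsg.Agent.Lib.Helper12.SU3S.Odd

/-!
The special unitary group of degree three over the field of nine elements is presented on three marked elements by
seven relators, with the universal property (helper12).
-/

set_option autoImplicit false

namespace Cfsg.Agent.Lib.Helper12.SU3S

open Cfsg.Agent.Lib.Helper12.TC Cfsg.Agent.Lib.Helper12.TCG

universe u

theorem su3_pres_three {F : Type u} [Field F] [Fintype F] (hF : Fintype.card F = 3 ^ 2) :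
    ∃ (g : Fin 3 → ↥(Cfsg.SU 3 F 3)) (L : List (FreeGroup (Fin 3))), L.length ≤ 22 ∧
      Subgroup.closure (Set.range g) = ⊤ ∧ (∀ x ∈ L, FreeGroup.lift g x = 1) ∧
      ∀ (G : Type) [Group G] (u : Fin 3 → G), (∀ x ∈ L, FreeGroup.lift u x = 1) →
        ∃ φ : ↥(Cfsg.SU 3 F 3) →* G, ∀ i, φ (g i) = u i := by
  obtain ⟨r, hr, hrq, hne⟩ := odd_field_data (F := F) (q := 3) (by norm_num) (by norm_num) hF 5 1 1
    (by norm_num) (by norm_num) (by norm_num)
  exact pres_of_data (by norm_num) hF r hr hrq hne Q3.Lm Q3.hdet0 Q3.hdet2 Q3.hdet4 Q3.hJ0 Q3.hJ2 Q3.hJ4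
    SU33Pres.relsL SU33Pres.baseL SU33Pres.baseL_eq SU33Pres.hlet Q3.hrel Q3.W1 Q3.W2 Q3.hlet1 Q3.hlet2
    Q3.hc1 Q3.hc2 Q3.hfix Q3.hN Q3.hcard (by decide)

end Cfsg.Agent.Lib.Helper12.SU3S
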