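import Cfsg.Agent.Lib.Helper12.SU3S.Q5
import Cfsg.Agent.Lib.Helper12.SU3S.Odd

/-!
The special unitary group of degree three over the field of twenty-five elements is presented on three marked
elements by eleven relators, with the universal property (helper12).
-/

set_option autoImplicit false

namespace Cfsg.Agent.Lib.Helper12.SU3S

open Cfsg.Agent.Lib.Helper12.TC Cfsg.Agent.Lib.Helper12.TCG

universe u

theorem su3_pres_five {F : Type u} [Field F] [Fintype F] (hF : Fintype.card F = 5 ^ 2) :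
    ∃ (g : Fin 3 → ↥(Cfsg.SU 3 F 5)) (L : List (FreeGroup (Fin 3))), L.length ≤ 22 ∧
      Subgroup.closure (Set.range g) = ⊤ ∧ (∀ x ∈ L, FreeGroup.lift g x = 1) ∧
      ∀ (G : Type) [Group G] (u : Fin 3 → G), (∀ x ∈ L, FreeGroup.lift u x = 1) →
        ∃ φ : ↥(Cfsg.SU 3 F 5) →* G, ∀ i, φ (g i) = u i := by
  obtain ⟨r, hr, hrq, hne⟩ := odd_field_data (F := F) (q := 5) (by norm_num) (by norm_num) hF 819 2 1
    (by norm_num) (by norm_num) (by norm_num)
  exact pres_of_data (by norm_num) hF r hr hrq hne Q5.Lm Q5.hdet0 Q5.hdet2 Q5.hdet4 Q5.hJ0 Q5.hJ2 Q5.hJ4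
    SU35Pres.relsL SU35Pres.baseL SU35Pres.baseL_eq SU35Pres.hlet Q5.hrel Q5.W1 Q5.W2 Q5.hlet1 Q5.hlet2
    Q5.hc1 Q5.hc2 Q5.hfix Q5.hN Q5.hcard (by decide)

end Cfsg.Agent.Lib.Helper12.SU3S
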