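import Cfsg.Agent.Lib.Helper12.SU3S.Main
import Cfsg.Agent.Lib.Helper27.STU.Frob
import Cfsg.Agent.Lib.helper15.U3PX22core

/-!
The rank one model `SUm F True` of the unitary Steinberg systems (the subgroup of `SL₃(F)` generated by the two root
subgroups of the antidiagonal form) and the special unitary group `Cfsg.SU 3 F q` of the standard form: the matrix
in hyperbolic coordinates is an isomorphism from the second to the first (helper12).  The inclusion of the model is
a computation; the other inclusion is the generation of `SU₃(q)` by its root subgroups (`q ≠ 2`: helper15's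
`top_of_UP`; `q = 2`: in `Bridge2`).
-/

set_option autoImplicit false

namespace Cfsg.Agent.Lib.Helper12.SU3S

open Cfsg.Agent.Lib.Helper27.STU Cfsg.Agent.Lib.Helper25.SU3P Cfsg.Agent.Lib.helper14.SU3J Matrix

universe u

section Bridge

variable {F : Type u} [Field F] {q : ℕ} {σ : F →+* F}

/-- the matrix in coordinates, as a homomorphism to the special linear group -/
def cjHom (c : Coords F q σ) : ↥(Cfsg.SU 3 F q) →* Matrix.SpecialLinearGroup (Fin 3) F where
  toFun X := ⟨c.cj X, c.cj_det X⟩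
  map_one' := Subtype.ext c.cj_one
  map_mul' X Y := Subtype.ext (c.cj_mul X Y)

theorem cjHom_coe (c : Coords F q σ) (X : ↥(Cfsg.SU 3 F q)) :
    ((cjHom c X : Matrix.SpecialLinearGroup (Fin 3) F) : Matrix (Fin 3) (Fin 3) F) = c.cj X := rfl

theorem cjHom_injective (c : Coords F q σ) : Function.Injective (cjHom c) :=
  fun _ _ h => c.cj_inj (congrArg Subtype.val h)

/-- a skew element which is not zero -/
theorem exists_skew [Fintype F] (hF : Fintype.card F = q ^ 2) : ∃ c0 : F, c0 ≠ 0 ∧ c0 ^ q = -c0 := by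
  letI := frobStar hF
  obtain ⟨c0, h1, h2⟩ := (frobStar_hyp hF).ex_skew
  exact ⟨c0, h1, h2⟩

variable [StarRing F]

theorem XpM_eq_uu (hs : ∀ x : F, star x = σ x) (ξ : Lam F True) : XpM ξ = uu σ ξ.v ξ.c := by
  unfold XpM uu
  rw [hs]

theorem presJ_XpM (hs : ∀ x : F, star x = σ x) (hσσ : ∀ x, σ (σ x) = x) (ξ : Lam F True) :
    PresJ σ (XpM ξ) := by
  rw [XpM_eq_uu hs]
  apply ConjAux.presJ_uu σ hσσ
  have h := ξ.h
  rwa [hs, hs] at h

theorem presJ_XmM (hs : ∀ x : F, star x = σ x) (hσσ : ∀ x, σ (σ x) = x) (ξ : Lam F True) :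
    PresJ σ (XmM ξ) := by
  have h := ξ.h
  rw [hs, hs] at h
  apply presJ_of_entries
  intro i j
  fin_cases i <;> fin_cases j <;> simp [XmM, hs, hσσ]
  linear_combination h

/-- the model is contained in the image of the special unitary group -/
theorem sum_le_range (c : Coords F q σ) (hs : ∀ x : F, star x = σ x) (hσσ : ∀ x, σ (σ x) = x) :
    SUm F True ≤ (cjHom c).range := by
  unfold SUm
  rw [Subgroup.closure_le]
  rintro M (⟨ξ, rfl⟩ | ⟨ξ, rfl⟩)
  · obtain ⟨X, hX⟩ := c.exists_lift (XpM ξ) (presJ_XpM hs hσσ ξ) (det_XpM ξ)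
    exact ⟨X, Subtype.ext hX⟩
  · obtain ⟨X, hX⟩ := c.exists_lift (XmM ξ) (presJ_XmM hs hσσ ξ) (det_XmM ξ)
    exact ⟨X, Subtype.ext hX⟩

/-- the image of the special unitary group is contained in the model, for `q ≠ 2` -/
theorem range_le_sum [Fintype F] (hF : Fintype.card F = q ^ 2) (hq2 : q ≠ 2) (hσ : ∀ x, σ x = x ^ q)
    (c : Coords F q σ) (hs : ∀ x : F, star x = σ x) : (cjHom c).range ≤ SUm F True := by
  have hσσ : ∀ x, σ (σ x) = x := fun x => Cfsg.Agent.Lib.Lead.frob_frob hF σ hσ x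
  obtain ⟨c0, hc0, hc0'⟩ := exists_skew hF
  have hc0σ : σ c0 = -c0 := by
    rw [hσ]
    exact hc0'
  let ξ0 : Lam F True := ⟨0, c0, by rw [hs, hc0σ]; simp, fun h => absurd trivial h⟩
  have hH : (SUm F True).comap (cjHom c) = ⊤ := by
    obtain ⟨X0, hX0⟩ := c.exists_lift (XmM ξ0) (presJ_XmM hs hσσ ξ0) (det_XmM ξ0)
    have hX0m : X0 ∈ (SUm F True).comap (cjHom c) := by
      show cjHom c X0 ∈ SUm F True
      have : cjHom c X0 = XmS ξ0 := Subtype.ext hX0
      rw [this]
      exact Subgroup.subset_closure (Or.inr ⟨ξ0, rfl⟩)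
    have hM := Cfsg.Agent.Lib.Helper19.U3P.u3px22_InJ hσ c _ X0 hX0m
    rw [hX0] at hM
    refine Cfsg.Agent.Lib.helper15.SU3G.top_of_UP hF hq2 hσ hσσ
      (Cfsg.Agent.Lib.Helper19.U3P.u3px22_frame hσ c) ?_
      (Cfsg.Agent.Lib.Helper19.U3P.u3px22_isJU _ (presJ_XmM hs hσσ ξ0)) hM ?_
    · intro a b hv
      let ξ : Lam F True := ⟨a, b, by rw [hs, hs]; exact hv, fun h => absurd trivial h⟩
      obtain ⟨X, hX⟩ := c.exists_lift (XpM ξ) (presJ_XpM hs hσσ ξ) (det_XpM ξ)
      have hXm : X ∈ (SUm F True).comap (cjHom c) := by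
        show cjHom c X ∈ SUm F True
        have : cjHom c X = XpS ξ := Subtype.ext hX
        rw [this]
        exact Subgroup.subset_closure (Or.inl ⟨ξ, rfl⟩)
      have h1 := Cfsg.Agent.Lib.Helper19.U3P.u3px22_InJ hσ c _ X hXm
      rw [hX, XpM_eq_uu hs] at h1
      exact h1
    · show XmM ξ0 2 0 ≠ 0
      simp [XmM, ξ0, hc0]
  rintro _ ⟨X, rfl⟩
  have : X ∈ (SUm F True).comap (cjHom c) := by rw [hH]; trivial
  exact this

end Bridge

end Cfsg.Agent.Lib.Helper12.SU3S
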