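import Cfsg.Agent.Lib.Helper12.SU3S.Q2

/-!
The special unitary group of degree three over the field of four elements is presented on three marked elements
(two elements of a root subgroup and a Weyl element) by five relators, with the universal property (helper12).
-/

set_option autoImplicit false

namespace Cfsg.Agent.Lib.Helper12.SU3S

open Cfsg.Agent.Lib.Helper12.TC Cfsg.Agent.Lib.Helper12.TCG Cfsg.Agent.Lib.Helper25.SU3P

universe u

/-- a primitive cube root of unity in the field of four elements -/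
theorem four_field_data {F : Type*} [Field F] [Fintype F] (hF : Fintype.card F = 2 ^ 2) :
    ∃ r : F, r * r = ((1 : ℕ) : F) * r + ((1 : ℕ) : F) ∧ r ^ 2 = ((1 : ℕ) : F) - r ∧
      ((1 : ℕ) : F) - r ≠ r := by
  classical
  have hcp : CharP F 2 := charP_of_card Nat.prime_two (by norm_num) hF
  have h2 : (2 : F) = 0 := by
    have := CharP.cast_eq_zero F 2
    exact_mod_cast this
  have hneg : ∀ x : F, -x = x := by
    intro x
    have : x + x = 0 := by linear_combination x * h2
    exact neg_eq_of_add_eq_zero_left this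
  -- an element different from zero and one
  have hex : ∃ x : F, x ≠ 0 ∧ x ≠ 1 := by
    by_contra hcon
    push Not at hcon
    have hsub : (Finset.univ : Finset F) ⊆ {0, 1} := by
      intro x _
      by_cases hx : x = 0
      · simp [hx]
      · simp [hcon x hx]
    have h1 := Finset.card_le_card hsub
    rw [Finset.card_univ, hF] at h1
    have h3 : ({0, 1} : Finset F).card ≤ 2 := Finset.card_le_two
    omega
  obtain ⟨x, hx0, hx1⟩ := hex
  have h3 : x ^ 3 = 1 := by
    have := FiniteField.pow_card_sub_one_eq_one x hx0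
    rw [hF] at this
    exact this
  have h4 : (x - 1) * (x * x + x + 1) = 0 := by linear_combination h3
  have h5 : x * x + x + 1 = 0 := by
    rcases mul_eq_zero.mp h4 with h | h
    · exact absurd (sub_eq_zero.mp h) hx1
    · exact h
  have h6 : x * x = x + 1 := by
    have : x * x = -(x + 1) := by linear_combination h5
    rw [this, hneg]
  refine ⟨x, ?_, ?_, ?_⟩
  · rw [Nat.cast_one, one_mul, h6]
  · rw [Nat.cast_one, pow_two, h6, sub_eq_add_neg, hneg, add_comm]
  · rw [Nat.cast_one]
    intro h
    have h7 : (1 : F) = 0 := by linear_combination h + x * h2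
    exact one_ne_zero h7

theorem su3_pres_two {F : Type u} [Field F] [Fintype F] (hF : Fintype.card F = 2 ^ 2) :
    ∃ (g : Fin 3 → ↥(Cfsg.SU 3 F 2)) (L : List (FreeGroup (Fin 3))), L.length ≤ 22 ∧
      Subgroup.closure (Set.range g) = ⊤ ∧ (∀ x ∈ L, FreeGroup.lift g x = 1) ∧
      ∀ (G : Type) [Group G] (u : Fin 3 → G), (∀ x ∈ L, FreeGroup.lift u x = 1) →
        ∃ φ : ↥(Cfsg.SU 3 F 2) →* G, ∀ i, φ (g i) = u i := by
  obtain ⟨r, hr, hrq, hne⟩ := four_field_data hF
  exact pres_of_data (by norm_num) hF r hr hrq hne Q2.Lm Q2.hdet0 Q2.hdet2 Q2.hdet4 Q2.hJ0 Q2.hJ2 Q2.hJ4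
    SU32Pres.relsL SU32Pres.baseL SU32Pres.baseL_eq SU32Pres.hlet Q2.hrel Q2.W1 Q2.W2 Q2.hlet1 Q2.hlet2
    Q2.hc1 Q2.hc2 Q2.hfix Q2.hN Q2.hcard (by decide)

end Cfsg.Agent.Lib.Helper12.SU3S
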