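import Cfsg.Agent.Lib.Helper12.SU3S.Bridge
import Cfsg.Agent.Lib.Helper12.SU3S.P2

/-!
The rank one model `SUm F True` over the field of four elements contains the image of `Cfsg.SU 3 F 2`: the three
generators of the marked presentation are two elements of a root subgroup and a product of three root elements
(helper12).
-/

set_option autoImplicit false

namespace Cfsg.Agent.Lib.Helper12.SU3S

open Cfsg.Agent.Lib.Helper27.STU Cfsg.Agent.Lib.Helper25.SU3P Cfsg.Agent.Lib.helper14.SU3J Matrix
open Cfsg.Agent.Lib.Helper12.PSU3S Cfsg.Agent.Lib.Helper12.TCG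

universe u

section Bridge2

variable {F : Type u} [Field F] [Fintype F] [StarRing F] {σ : F →+* F}

/-- the image of the special unitary group is contained in the model, for `q = 2` -/
theorem range_le_sum_two (hF : Fintype.card F = 2 ^ 2) (hσ : ∀ x, σ x = x ^ 2)
    (c : Coords F 2 σ) (hs : ∀ x : F, star x = σ x) : (cjHom c).range ≤ SUm F True := by
  obtain ⟨r, hr, hrq, hne⟩ := four_field_data hF
  have hcp : CharP F 2 := charP_of_card Nat.prime_two (by norm_num) hF
  have h2 : (2 : F) = 0 := by
    have := CharP.cast_eq_zero F 2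
    exact_mod_cast this
  have hneg : ∀ x : F, -x = x := by
    intro x
    have : x + x = 0 := by linear_combination x * h2
    exact neg_eq_of_add_eq_zero_left this
  have hσr : σ r = 1 - r := by
    rw [hσ, hrq, Nat.cast_one]
  have hr' : r * r = r + 1 := by rw [hr, Nat.cast_one, one_mul]
  obtain ⟨g, L, -, hcl, -, -, h0, h1, h4⟩ := pres_of_data_c (by norm_num) hF r hr hrq hne hσ c Q2.Lm
    Q2.hdet0 Q2.hdet2 Q2.hdet4 Q2.hJ0 Q2.hJ2 Q2.hJ4 SU32Pres.relsL SU32Pres.baseL SU32Pres.baseL_eq
    SU32Pres.hlet Q2.hrel Q2.W1 Q2.W2 Q2.hlet1 Q2.hlet2 Q2.hc1 Q2.hc2 Q2.hfix Q2.hN Q2.hcard (by decide)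
  let ξa : Lam F True := ⟨1, r, by rw [hs, hs, hσr, map_one]; linear_combination h2,
    fun h => absurd trivial h⟩
  let ξb : Lam F True := ⟨r, r, by rw [hs, hσr]; linear_combination -hr',
    fun h => absurd trivial h⟩
  let ξw : Lam F True := ⟨0, 1, by rw [hs, map_one]; linear_combination h2, fun h => absurd trivial h⟩
  have hH : (SUm F True).comap (cjHom c) = ⊤ := by
    rw [eq_top_iff, ← hcl, Subgroup.closure_le]
    rintro _ ⟨i, rfl⟩
    show cjHom c (g i) ∈ SUm F True
    fin_cases i
    · have : cjHom c (g 0) = XpS ξa := by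
        apply Subtype.ext
        show c.cj (g 0) = XpM ξa
        rw [h0]
        ext i j
        fin_cases i <;> fin_cases j <;>
          simp [toMat, entry, Q2.Lm, XpM, ev, ξa, hneg]
      show cjHom c (g 0) ∈ SUm F True
      rw [this]
      exact Subgroup.subset_closure (Or.inl ⟨ξa, rfl⟩)
    · have : cjHom c (g 1) = XpS ξb := by
        apply Subtype.ext
        show c.cj (g 1) = XpM ξb
        rw [h1]
        ext i j
        fin_cases i <;> fin_cases j <;>
          simp [toMat, entry, Q2.Lm, XpM, ev, ξb, hneg, hs, hσr]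
        linear_combination r * h2
      show cjHom c (g 1) ∈ SUm F True
      rw [this]
      exact Subgroup.subset_closure (Or.inl ⟨ξb, rfl⟩)
    · have : cjHom c (g 2) = XpS ξw * XmS ξw * XpS ξw := by
        apply Subtype.ext
        show c.cj (g 2) = XpM ξw * XmM ξw * XpM ξw
        rw [h4]
        ext i j
        fin_cases i <;> fin_cases j <;>
          simp [toMat, entry, Q2.Lm, XpM, XmM, ev, ξw, hneg, Matrix.mul_apply, Fin.sum_univ_three] <;>
          first | linear_combination h2 | linear_combination -h2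
      show cjHom c (g 2) ∈ SUm F True
      rw [this]
      exact (SUm F True).mul_mem ((SUm F True).mul_mem (Subgroup.subset_closure (Or.inl ⟨ξw, rfl⟩))
        (Subgroup.subset_closure (Or.inr ⟨ξw, rfl⟩))) (Subgroup.subset_closure (Or.inl ⟨ξw, rfl⟩))
  rintro _ ⟨X, rfl⟩
  have : X ∈ (SUm F True).comap (cjHom c) := by rw [hH]; trivial
  exact this

end Bridge2

end Cfsg.Agent.Lib.Helper12.SU3S
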