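import Cfsg.Agent.Lib.Helper12.PSU3S.Mat

/-!
Matrices of degree three over the field of `q^2` elements, `q` a prime, written as pairs `x + y s` with
`s * s = t * s + d`: the multiplication, the conjugation `s ↦ t - s`, and their interpretation in a field (helper12).
-/

set_option autoImplicit false

namespace Cfsg.Agent.Lib.Helper12.SU3S

open Cfsg.Agent.Lib.Helper12.PSU3S

/-- the product of two pairs, with `s * s = t * s + d` -/
def emulT (q t d : ℕ) (a b : El) : El :=
  ((a.1 * b.1 + d * (a.2 * b.2)) % q, (a.1 * b.2 + a.2 * b.1 + t * (a.2 * b.2)) % q)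

/-- the conjugate of a pair, with `s ↦ t - s` -/
def econjT (q t : ℕ) (a : El) : El := ((a.1 + t * a.2) % q, (q - a.2 % q) % q)

def dot3T (q t d : ℕ) (a b c a' b' c' : El) : El :=
  eadd q (eadd q (emulT q t d a a') (emulT q t d b b')) (emulT q t d c c')

def mmulT (q t d : ℕ) (A B : M3) : M3 where
  a00 := dot3T q t d A.a00 A.a01 A.a02 B.a00 B.a10 B.a20
  a01 := dot3T q t d A.a00 A.a01 A.a02 B.a01 B.a11 B.a21
  a02 := dot3T q t d A.a00 A.a01 A.a02 B.a02 B.a12 B.a22
  a10 := dot3T q t d A.a10 A.a11 A.a12 B.a00 B.a10 B.a20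
  a11 := dot3T q t d A.a10 A.a11 A.a12 B.a01 B.a11 B.a21
  a12 := dot3T q t d A.a10 A.a11 A.a12 B.a02 B.a12 B.a22
  a20 := dot3T q t d A.a20 A.a21 A.a22 B.a00 B.a10 B.a20
  a21 := dot3T q t d A.a20 A.a21 A.a22 B.a01 B.a11 B.a21
  a22 := dot3T q t d A.a20 A.a21 A.a22 B.a02 B.a12 B.a22

def mconjT (q t : ℕ) (A : M3) : M3 :=
  ⟨econjT q t A.a00, econjT q t A.a01, econjT q t A.a02, econjT q t A.a10, econjT q t A.a11,
    econjT q t A.a12, econjT q t A.a20, econjT q t A.a21, econjT q t A.a22⟩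

/-- the determinant -/
def mdetT (q t d : ℕ) (A : M3) : El :=
  eadd q (eadd q (emulT q t d A.a00 (eadd q (emulT q t d A.a11 A.a22) (eneg q (emulT q t d A.a12 A.a21))))
    (eneg q (emulT q t d A.a01 (eadd q (emulT q t d A.a10 A.a22) (eneg q (emulT q t d A.a12 A.a20))))))
    (emulT q t d A.a02 (eadd q (emulT q t d A.a10 A.a21) (eneg q (emulT q t d A.a11 A.a20))))

/-- the value of a word in matrices -/
def wmatT (q t d : ℕ) (L : ℕ → M3) : List ℕ → M3
  | [] => mone
  | s :: w => mmulT q t d (L s) (wmatT q t d L w)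

section Interp

variable {F : Type*} [Field F] {r : F} {q t d : ℕ}

theorem ev_emulT (hq : (q : F) = 0) (hr : r * r = (t : F) * r + (d : F)) (a b : El) :
    ev r (emulT q t d a b) = ev r a * ev r b := by
  unfold ev emulT
  simp only [cast_mod hq, Nat.cast_add, Nat.cast_mul]
  linear_combination (-(a.2 : F) * (b.2 : F)) * hr

theorem ev_econjT (hq : (q : F) = 0) (hq0 : 0 < q) (a : El) :
    ev r (econjT q t a) = (a.1 : F) + (a.2 : F) * ((t : F) - r) := by
  unfold ev econjT
  simp only [cast_sub_mod hq hq0, cast_mod hq, Nat.cast_add, Nat.cast_mul]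
  ring

theorem ev_mapT (hq : (q : F) = 0) (hq0 : 0 < q) (σ : F →+* F) (hσ : σ r = (t : F) - r) (a : El) :
    σ (ev r a) = ev r (econjT q t a) := by
  rw [ev_econjT hq hq0]
  unfold ev
  rw [map_add, map_mul, map_natCast, map_natCast, hσ]

theorem ev_dot3T (hq : (q : F) = 0) (hr : r * r = (t : F) * r + (d : F)) (a b c a' b' c' : El) :
    ev r (dot3T q t d a b c a' b' c') = ev r a * ev r a' + ev r b * ev r b' + ev r c * ev r c' := by
  unfold dot3T
  rw [ev_eadd hq, ev_eadd hq, ev_emulT hq hr, ev_emulT hq hr, ev_emulT hq hr]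

theorem toMat_mmulT (hq : (q : F) = 0) (hr : r * r = (t : F) * r + (d : F)) (A B : M3) :
    toMat r (mmulT q t d A B) = toMat r A * toMat r B := by
  ext i j
  rw [Matrix.mul_apply, Fin.sum_univ_three]
  fin_cases i <;> fin_cases j <;>
    simp only [toMat, Matrix.of_apply, entry, mmulT, ev_dot3T hq hr, Fin.zero_eta, Fin.mk_one,
      Fin.reduceFinMk]

theorem toMat_mconjT (hq : (q : F) = 0) (hq0 : 0 < q) (σ : F →+* F) (hσ : σ r = (t : F) - r) (A : M3) :
    (toMat r A).map σ = toMat r (mconjT q t A) := by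
  ext i j
  fin_cases i <;> fin_cases j <;>
    simp only [toMat, Matrix.map_apply, Matrix.of_apply, entry, mconjT, ev_mapT hq hq0 σ hσ,
      Fin.zero_eta, Fin.mk_one, Fin.reduceFinMk]

theorem det_toMatT (hq : (q : F) = 0) (hq0 : 0 < q) (hr : r * r = (t : F) * r + (d : F)) (A : M3) :
    (toMat r A).det = ev r (mdetT q t d A) := by
  rw [Matrix.det_fin_three]
  unfold mdetT
  simp only [ev_eadd hq, ev_emulT hq hr, ev_eneg hq hq0, toMat, Matrix.of_apply, entry]
  ring

end Interp

end Cfsg.Agent.Lib.Helper12.SU3S
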