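import Cfsg.Agent.Lib.Helper12.PSU3S.Hom
import Cfsg.Agent.Lib.Helper12.SU3S.Mat
import Cfsg.Agent.Lib.Helper12.TCG.WPres
import Cfsg.Agent.Lib.Helper25.SU3P.Basic
import Cfsg.Agent.Lib.helper17.SLP.Defs

/-!
Marked presentations of the special unitary groups of degree three over small fields: the generic part.  Three
elements `a`, `b`, `w` of the group with matrices (in coordinates of the antidiagonal form) which are the values of
matrices of pairs; words in them which reach many columns give a lower bound for the order of the subgroup they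
generate, a coset enumeration gives an upper bound for the order of the presented group (helper12).
-/

set_option autoImplicit false

namespace Cfsg.Agent.Lib.Helper12.SU3S

open Cfsg.Agent.Lib.Helper12.TC Cfsg.Agent.Lib.Helper12.TCG Cfsg.Agent.Lib.Helper12.PSU3S
open Cfsg.Agent.Lib.Helper25.SU3P

/-- strictly increasing lists of numbers -/
def incK : List ℕ → Bool
  | [] => true
  | [_] => true
  | a :: b :: l => Nat.blt a b && incK (b :: l)

theorem incK_pairwise : ∀ l : List ℕ, incK l = true → l.Pairwise (· < ·) := by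
  intro l
  induction l with
  | nil => intro _; exact List.Pairwise.nil
  | cons a l ih =>
    cases l with
    | nil => intro _; exact List.pairwise_singleton _ _
    | cons b l =>
      intro h
      have h' : (Nat.blt a b && incK (b :: l)) = true := h
      rw [Bool.and_eq_true] at h'
      have hab : a < b := Nat.le_of_ble_eq_true h'.1
      have hp := ih h'.2
      have hp' := List.pairwise_cons.mp hp
      refine List.pairwise_cons.mpr ⟨?_, hp⟩
      intro c hc
      rcases List.mem_cons.mp hc with rfl | hc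
      · exact hab
      · exact hab.trans (hp'.1 c hc)

theorem incK_inj {l : List ℕ} (h : incK l = true) {i j : ℕ} (hi : i < l.length) (hj : j < l.length)
    (hij : l[i] = l[j]) : i = j := by
  have hp := incK_pairwise l h
  have hn : l.Nodup := hp.imp (fun hab => ne_of_lt hab)
  exact (List.Nodup.getElem_inj_iff hn).mp hij

/-- the code of a triple of pairs, a function of the residues -/
def code (q : ℕ) (a b c : El) : ℕ :=
  a.1 % q + q * (a.2 % q + q * (b.1 % q + q * (b.2 % q + q * (c.1 % q + q * (c.2 % q)))))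

/-- the code of a column of a matrix -/
def colCode (q : ℕ) (A : M3) (j : Fin 3) : ℕ := code q (entry A 0 j) (entry A 1 j) (entry A 2 j)

section Field

variable {F : Type*} [Field F] {q : ℕ} {r : F}

/-- pairs with the same value have the same residues -/
theorem ev_inj_mod [CharP F q] (σ : F →+* F) (hne : σ r ≠ r)
    {a b : El} (h : ev r a = ev r b) : a.1 % q = b.1 % q ∧ a.2 % q = b.2 % q := by
  unfold ev at h
  have h1 : (a.1 : F) - b.1 = ((b.2 : F) - a.2) * r := by linear_combination h
  have h3 := congrArg σ h1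
  rw [map_sub, map_mul, map_sub, map_natCast, map_natCast, map_natCast, map_natCast] at h3
  have h4 : ((b.2 : F) - a.2) * (σ r - r) = 0 := by linear_combination h1 - h3
  have h5 : (b.2 : F) - a.2 = 0 := by
    rcases mul_eq_zero.mp h4 with h | h
    · exact h
    · exact absurd (sub_eq_zero.mp h) hne
  have h6 : (a.1 : F) - b.1 = 0 := by rw [h1, h5, zero_mul]
  constructor
  · exact (CharP.natCast_eq_natCast F q).mp (sub_eq_zero.mp h6)
  · exact ((CharP.natCast_eq_natCast F q).mp (sub_eq_zero.mp h5)).symm

theorem code_eq_of_ev [CharP F q] (σ : F →+* F) (hne : σ r ≠ r)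
    {a b c a' b' c' : El} (ha : ev r a = ev r a') (hb : ev r b = ev r b') (hc : ev r c = ev r c') :
    code q a b c = code q a' b' c' := by
  obtain ⟨h1, h2'⟩ := ev_inj_mod σ hne ha
  obtain ⟨h3, h4⟩ := ev_inj_mod σ hne hb
  obtain ⟨h5, h6⟩ := ev_inj_mod σ hne hc
  unfold code
  rw [h1, h2', h3, h4, h5, h6]

/-- matrices with the same values in a column have the same code of this column -/
theorem colCode_eq_of_toMat [CharP F q] (σ : F →+* F) (hne : σ r ≠ r)
    {A B : M3} (j : Fin 3) (h : ∀ i, toMat r A i j = toMat r B i j) : colCode q A j = colCode q B j := by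
  unfold colCode
  exact code_eq_of_ev σ hne (h 0) (h 1) (h 2)

end Field

section Count

variable {F : Type*} [Field F] [Fintype F] {q t d : ℕ} {σ : F →+* F} (c : Coords F q σ) {r : F}
  (g : ℕ → ↥(Cfsg.SU 3 F q)) (Lm : ℕ → M3)

/-- the matrix of a word in the elements -/
theorem cj_wprod (hq : (q : F) = 0) (hr : r * r = (t : F) * r + (d : F)) (hg : ∀ s < 6, c.cj (g s) = toMat r (Lm s))
    (l : List ℕ) (hl : ∀ s ∈ l, s < 6) : c.cj (wprod g l) = toMat r (wmatT q t d Lm l) := by
  induction l with
  | nil =>
    rw [wprod_nil, c.cj_one]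
    exact toMat_mone.symm
  | cons s l ih =>
    rw [wprod_cons, c.cj_mul, hg s (hl s List.mem_cons_self),
      ih (fun t ht => hl t (List.mem_cons_of_mem _ ht))]
    exact (toMat_mmulT hq hr _ _).symm

theorem wprod_mem (H : Subgroup ↥(Cfsg.SU 3 F q)) (hH : ∀ s < 6, g s ∈ H) (l : List ℕ)
    (hl : ∀ s ∈ l, s < 6) : wprod g l ∈ H := by
  induction l with
  | nil => rw [wprod_nil]; exact H.one_mem
  | cons s l ih =>
    rw [wprod_cons]
    exact H.mul_mem (hH s (hl s List.mem_cons_self)) (ih (fun t ht => hl t (List.mem_cons_of_mem _ ht)))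

/-- the check that the first column of the values of the words is the first vector of the basis -/
def fixK (q t d : ℕ) (Lm : ℕ → M3) (W : List (List ℕ)) : Bool :=
  allListK W (fun w => decide (entry (wmatT q t d Lm w) 0 0 = (1, 0) ∧ entry (wmatT q t d Lm w) 1 0 = (0, 0) ∧
    entry (wmatT q t d Lm w) 2 0 = (0, 0)))

/-- words which reach many columns: a lower bound for the order -/
theorem count_le [CharP F q] (hr : r * r = (t : F) * r + (d : F)) (hne : σ r ≠ r)
    (hg : ∀ s < 6, c.cj (g s) = toMat r (Lm s)) (W1 W2 : List (List ℕ))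
    (hlet1 : lettersK 6 W1 = true) (hlet2 : lettersK 6 W2 = true)
    (hc1 : incK (W1.map (fun w => colCode q (wmatT q t d Lm w) 0)) = true)
    (hc2 : incK (W2.map (fun w => colCode q (wmatT q t d Lm w) 2)) = true)
    (hfix : fixK q t d Lm W2 = true)
    (H : Subgroup ↥(Cfsg.SU 3 F q)) (hH : ∀ s < 6, g s ∈ H) :
    W1.length * W2.length ≤ Nat.card ↥H := by
  have hq : (q : F) = 0 := CharP.cast_eq_zero F q
  have hl1 : ∀ i (hi : i < W1.length), ∀ s ∈ W1[i], s < 6 := fun i hi s hs =>
    lettersK_lt hlet1 (List.getElem_mem hi) hs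
  have hl2 : ∀ j (hj : j < W2.length), ∀ s ∈ W2[j], s < 6 := fun j hj s hs =>
    lettersK_lt hlet2 (List.getElem_mem hj) hs
  let f : Fin W1.length × Fin W2.length → ↥H := fun p =>
    ⟨wprod g W1[(p.1 : ℕ)] * wprod g W2[(p.2 : ℕ)], H.mul_mem (wprod_mem g H hH _ (hl1 p.1 p.1.isLt))
      (wprod_mem g H hH _ (hl2 p.2 p.2.isLt))⟩
  have hinj : Function.Injective f := by
    rintro ⟨i, j⟩ ⟨i', j'⟩ h
    have h0 : wprod g W1[(i : ℕ)] * wprod g W2[(j : ℕ)] = wprod g W1[(i' : ℕ)] * wprod g W2[(j' : ℕ)] :=
      congrArg Subtype.val h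
    have h1 := congrArg c.cj h0
    rw [c.cj_mul, c.cj_mul, cj_wprod c g Lm hq hr hg _ (hl1 i i.isLt), cj_wprod c g Lm hq hr hg _ (hl2 j j.isLt),
      cj_wprod c g Lm hq hr hg _ (hl1 i' i'.isLt), cj_wprod c g Lm hq hr hg _ (hl2 j' j'.isLt)] at h1
    have hcol : ∀ (A : Matrix (Fin 3) (Fin 3) F) (j0 : ℕ) (hj0 : j0 < W2.length) (k : Fin 3),
        (A * toMat r (wmatT q t d Lm W2[j0])) k 0 = A k 0 := by
      intro A j0 hj0 k
      have hf := (allListK_iff W2 _).mp hfix W2[j0] (List.getElem_mem hj0)
      rw [decide_eq_true_eq] at hf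
      obtain ⟨e0, e1, e2⟩ := hf
      rw [Matrix.mul_apply, Fin.sum_univ_three]
      simp only [toMat, Matrix.of_apply, e0, e1, e2, ev_one, ev_zero, mul_one, mul_zero, add_zero]
    have hii : i = i' := by
      have h3 : colCode q (wmatT q t d Lm W1[(i : ℕ)]) 0 = colCode q (wmatT q t d Lm W1[(i' : ℕ)]) 0 := by
        apply colCode_eq_of_toMat σ hne
        intro k
        have e1 := hcol (toMat r (wmatT q t d Lm W1[(i : ℕ)])) j j.isLt k
        have e2 := hcol (toMat r (wmatT q t d Lm W1[(i' : ℕ)])) j' j'.isLt k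
        rw [← e1, ← e2, h1]
      apply Fin.ext
      apply incK_inj hc1 (by rw [List.length_map]; exact i.isLt) (by rw [List.length_map]; exact i'.isLt)
      rw [List.getElem_map, List.getElem_map]
      exact h3
    subst hii
    have h4 : wprod g W2[(j : ℕ)] = wprod g W2[(j' : ℕ)] := mul_left_cancel h0
    have h5 := congrArg c.cj h4
    rw [cj_wprod c g Lm hq hr hg _ (hl2 j j.isLt), cj_wprod c g Lm hq hr hg _ (hl2 j' j'.isLt)] at h5
    have hjj : j = j' := by
      have h3 : colCode q (wmatT q t d Lm W2[(j : ℕ)]) 2 = colCode q (wmatT q t d Lm W2[(j' : ℕ)]) 2 := by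
        apply colCode_eq_of_toMat σ hne
        intro k
        rw [h5]
      apply Fin.ext
      apply incK_inj hc2 (by rw [List.length_map]; exact j.isLt) (by rw [List.length_map]; exact j'.isLt)
      rw [List.getElem_map, List.getElem_map]
      exact h3
    rw [hjj]
  have h6 := Nat.card_le_card_of_injective f hinj
  rw [Nat.card_prod, Nat.card_fin, Nat.card_fin] at h6
  exact h6

end Count

end Cfsg.Agent.Lib.Helper12.SU3S
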