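import Cfsg.Agent.Lib.Helper12.SU3S.Bridge2
import Cfsg.Agent.Lib.Helper12.SU3S

/-!
# The rank one model `SUm F True` is isomorphic to `Cfsg.SU 3 F q` (helper12)

`sum_equiv`: for a field `F` with `q²` elements and `star x = x ^ q`, the matrix in hyperbolic coordinates `c` is an
isomorphism `e : SUm F True ≃* SU 3 F q` with `c.cj (e M) = M` (all `q`).  `pres_transport`, `sum_of_su`: a marked
presentation of `SU 3 F q` with the universal property in the form of a homomorphism gives one of `SUm F True`.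
`su3m_small_pres`: the marked presentations of `SUm F True` for `q = 2, 3, 5`.
-/

set_option autoImplicit false

namespace Cfsg.Agent.Lib.Helper12.SU3S

open Cfsg.Agent.Lib.Helper27.STU Cfsg.Agent.Lib.Helper25.SU3P Matrix

universe u

section Equiv

variable {F : Type u} [Field F] [Fintype F] [StarRing F] {q : ℕ} {σ : F →+* F}

/-- the image of the special unitary group in coordinates is the rank one model -/
theorem range_eq_sum (hF : Fintype.card F = q ^ 2) (hσ : ∀ x, σ x = x ^ q) (c : Coords F q σ)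
    (hs : ∀ x : F, star x = σ x) : (cjHom c).range = SUm F True := by
  have hσσ : ∀ x, σ (σ x) = x := fun x => Cfsg.Agent.Lib.Lead.frob_frob hF σ hσ x
  apply le_antisymm
  · by_cases hq2 : q = 2
    · subst hq2
      exact range_le_sum_two hF hσ c hs
    · exact range_le_sum hF hq2 hσ c hs
  · exact sum_le_range c hs hσσ

/-- the rank one model is isomorphic to the special unitary group, through the matrix in coordinates -/
theorem sum_equiv (hF : Fintype.card F = q ^ 2) (hs : ∀ x : F, star x = x ^ q) (hσ : ∀ x, σ x = x ^ q)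
    (c : Coords F q σ) :
    ∃ e : ↥(SUm F True) ≃* ↥(Cfsg.SU 3 F q), ∀ M : ↥(SUm F True),
      c.cj (e M) = ((M : Matrix.SpecialLinearGroup (Fin 3) F) : Matrix (Fin 3) (Fin 3) F) := by
  have hs' : ∀ x : F, star x = σ x := fun x => by rw [hs, hσ]
  have hr := range_eq_sum hF hσ c hs'
  have hmem : ∀ X : ↥(Cfsg.SU 3 F q), cjHom c X ∈ SUm F True := by
    intro X
    rw [← hr]
    exact ⟨X, rfl⟩
  let Θ : ↥(Cfsg.SU 3 F q) →* ↥(SUm F True) := (cjHom c).codRestrict (SUm F True) hmem
  have hbij : Function.Bijective Θ := by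
    constructor
    · intro X Y h
      exact cjHom_injective c (congrArg Subtype.val h)
    · intro M
      have hM : (M : Matrix.SpecialLinearGroup (Fin 3) F) ∈ (cjHom c).range := by
        rw [hr]
        exact M.2
      obtain ⟨X, hX⟩ := hM
      exact ⟨X, Subtype.ext hX⟩
  let e0 : ↥(Cfsg.SU 3 F q) ≃* ↥(SUm F True) := MulEquiv.ofBijective Θ hbij
  refine ⟨e0.symm, fun M => ?_⟩
  have h1 : e0 (e0.symm M) = M := e0.apply_symm_apply M
  have h2 : ((e0 (e0.symm M) : ↥(SUm F True)) : Matrix.SpecialLinearGroup (Fin 3) F) = cjHom c (e0.symm M) := rfl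
  rw [h1] at h2
  rw [h2]
  rfl

end Equiv

section Transport

/-- a marked presentation with the universal property moves along an isomorphism -/
theorem pres_transport {S T : Type*} [Group S] [Group T] (e : T ≃* S) {g : Fin 3 → S}
    {L : List (FreeGroup (Fin 3))} (h2 : Subgroup.closure (Set.range g) = ⊤)
    (h3 : ∀ x ∈ L, FreeGroup.lift g x = 1)
    (h4 : ∀ (G : Type) [Group G] (u : Fin 3 → G), (∀ x ∈ L, FreeGroup.lift u x = 1) →
      ∃ φ : S →* G, ∀ i, φ (g i) = u i) :
    Subgroup.closure (Set.range fun i => e.symm (g i)) = ⊤ ∧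
      (∀ x ∈ L, FreeGroup.lift (fun i => e.symm (g i)) x = 1) ∧
      ∀ (G : Type) [Group G] (u : Fin 3 → G), (∀ x ∈ L, FreeGroup.lift u x = 1) →
        ∃ φ : T →* G, ∀ i, φ (e.symm (g i)) = u i := by
  have hl : ∀ x, FreeGroup.lift (fun i => e.symm (g i)) x = e.symm (FreeGroup.lift g x) := by
    intro x
    have : FreeGroup.lift (fun i => e.symm (g i)) = e.symm.toMonoidHom.comp (FreeGroup.lift g) := by
      apply FreeGroup.ext_hom
      intro i
      simp
    rw [this]
    rfl
  refine ⟨?_, ?_, ?_⟩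
  · have h5 : (Set.range fun i => e.symm (g i)) = e.symm.toMonoidHom '' Set.range g := by
      ext y
      constructor
      · rintro ⟨i, rfl⟩
        exact ⟨g i, ⟨i, rfl⟩, rfl⟩
      · rintro ⟨_, ⟨i, rfl⟩, rfl⟩
        exact ⟨i, rfl⟩
    rw [h5, ← MonoidHom.map_closure, h2]
    exact Subgroup.map_top_of_surjective _ e.symm.surjective
  · intro x hx
    rw [hl, h3 x hx, map_one]
  · intro G _ u hu
    obtain ⟨φ, hφ⟩ := h4 G u hu
    refine ⟨φ.comp e.toMonoidHom, fun i => ?_⟩
    show φ (e (e.symm (g i))) = u i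
    rw [e.apply_symm_apply, hφ]

variable {F : Type u} [Field F] [Fintype F] [StarRing F] {q : ℕ}

/-- a marked presentation of the special unitary group gives one of the rank one model -/
theorem sum_of_su (hF : Fintype.card F = q ^ 2) (hs : ∀ x : F, star x = x ^ q) (n : ℕ)
    (h : ∃ (g : Fin 3 → ↥(Cfsg.SU 3 F q)) (L : List (FreeGroup (Fin 3))), L.length ≤ n ∧
      Subgroup.closure (Set.range g) = ⊤ ∧ (∀ x ∈ L, FreeGroup.lift g x = 1) ∧
      ∀ (G : Type) [Group G] (u : Fin 3 → G), (∀ x ∈ L, FreeGroup.lift u x = 1) →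
        ∃ φ : ↥(Cfsg.SU 3 F q) →* G, ∀ i, φ (g i) = u i) :
    ∃ (g : Fin 3 → ↥(SUm F True)) (L : List (FreeGroup (Fin 3))), L.length ≤ n ∧
      Subgroup.closure (Set.range g) = ⊤ ∧ (∀ x ∈ L, FreeGroup.lift g x = 1) ∧
      ∀ (G : Type) [Group G] (u : Fin 3 → G), (∀ x ∈ L, FreeGroup.lift u x = 1) →
        ∃ φ : ↥(SUm F True) →* G, ∀ i, φ (g i) = u i := by
  obtain ⟨σ, hσ⟩ := Cfsg.Agent.Lib.Lead.exists_frob hF
  obtain ⟨c⟩ := Cfsg.Agent.Lib.Helper19.U3P.exists_coords0 hF σ hσ
  obtain ⟨e, -⟩ := sum_equiv hF hs hσ c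
  obtain ⟨g, L, h1, h2, h3, h4⟩ := h
  obtain ⟨k2, k3, k4⟩ := pres_transport e h2 h3 h4
  exact ⟨fun i => e.symm (g i), L, h1, k2, k3, k4⟩

/-- `SUm F True`, `q = 2, 3, 5`, is presented on three marked generators by at most 22 relators, with the universal
property in the form of a homomorphism. -/
theorem su3m_small_pres (hF : Fintype.card F = q ^ 2) (hs : ∀ x : F, star x = x ^ q)
    (hq : q = 2 ∨ q = 3 ∨ q = 5) :
    ∃ (g : Fin 3 → ↥(SUm F True)) (L : List (FreeGroup (Fin 3))), L.length ≤ 22 ∧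
      Subgroup.closure (Set.range g) = ⊤ ∧ (∀ x ∈ L, FreeGroup.lift g x = 1) ∧
      ∀ (G : Type) [Group G] (u : Fin 3 → G), (∀ x ∈ L, FreeGroup.lift u x = 1) →
        ∃ φ : ↥(SUm F True) →* G, ∀ i, φ (g i) = u i :=
  sum_of_su hF hs 22 (su3_small_pres hF hq)

end Transport

end Cfsg.Agent.Lib.Helper12.SU3S
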