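import Cfsg.Agent.Lib.Helper12.SU3S.Core
import Cfsg.Agent.Lib.Helper9.U3PF4

/-!
Marked presentations of the special unitary groups of degree three over small fields: the assembly.  From three
matrices of pairs which are unitary for the antidiagonal form, relators which they satisfy, a bound for the order of
the presented group and words which reach enough columns, a presentation of the group on three marked elements with
the universal property (helper12).
-/

set_option autoImplicit false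

namespace Cfsg.Agent.Lib.Helper12.SU3S

open Cfsg.Agent.Lib.Helper12.TC Cfsg.Agent.Lib.Helper12.TCG Cfsg.Agent.Lib.Helper12.PSU3S
open Cfsg.Agent.Lib.Helper25.SU3P Cfsg.Agent.Lib.helper14.SU3J Matrix

universe u

theorem presJ_of_entries {F : Type*} [Field F] (σ : F →+* F) (M : Matrix (Fin 3) (Fin 3) F)
    (h : ∀ i j : Fin 3, M 0 i * σ (M 2 j) + M 1 i * σ (M 1 j) + M 2 i * σ (M 0 j) =
      (!![0, 0, 1; 0, 1, 0; 1, 0, 0] : Matrix (Fin 3) (Fin 3) F) i j) : PresJ σ M := by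
  have e00 := h 0 0
  have e01 := h 0 1
  have e02 := h 0 2
  have e10 := h 1 0
  have e11 := h 1 1
  have e12 := h 1 2
  have e20 := h 2 0
  have e21 := h 2 1
  have e22 := h 2 2
  simp at e00 e01 e02 e10 e11 e12 e20 e21 e22
  intro x y
  simp only [hJ, Matrix.mulVec, dotProduct, Fin.sum_univ_three, map_add, map_mul]
  linear_combination (x 0 * σ (y 0)) * e00 + (x 0 * σ (y 1)) * e01 + (x 0 * σ (y 2)) * e02 +
    (x 1 * σ (y 0)) * e10 + (x 1 * σ (y 1)) * e11 + (x 1 * σ (y 2)) * e12 +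
    (x 2 * σ (y 0)) * e20 + (x 2 * σ (y 1)) * e21 + (x 2 * σ (y 2)) * e22

/-- the rows in the opposite order -/
def mrev (A : M3) : M3 := ⟨A.a20, A.a21, A.a22, A.a10, A.a11, A.a12, A.a00, A.a01, A.a02⟩

/-- the matrix of the form -/
def Jm : M3 := ⟨(0, 0), (0, 0), (1, 0), (0, 0), (1, 0), (0, 0), (1, 0), (0, 0), (0, 0)⟩

/-- a matrix of pairs which passes the check is unitary for the antidiagonal form -/
theorem presJ_toMat {F : Type*} [Field F] {r : F} {q t d : ℕ} (hq : (q : F) = 0) (hq0 : 0 < q)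
    (hr : r * r = (t : F) * r + (d : F)) (σ : F →+* F) (hσ : σ r = (t : F) - r) (A : M3)
    (h : mmulT q t d (mtr A) (mrev (mconjT q t A)) = Jm) : PresJ σ (toMat r A) := by
  apply presJ_of_entries
  intro i j
  have h1 : (toMat r (mtr A) * toMat r (mrev (mconjT q t A))) i j = toMat r Jm i j := by
    rw [← toMat_mmulT hq hr, h]
  rw [Matrix.mul_apply, Fin.sum_univ_three] at h1
  have h2 : ∀ k l : Fin 3, toMat r (mrev (mconjT q t A)) k l = σ (toMat r A (2 - k) l) := by
    intro k l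
    fin_cases k <;> fin_cases l <;>
      simp only [toMat, Matrix.of_apply, entry, mrev, mconjT, ev_mapT hq hq0 σ hσ, Fin.zero_eta, Fin.mk_one,
        Fin.reduceFinMk] <;> rfl
  have h3 : ∀ k l : Fin 3, toMat r (mtr A) k l = toMat r A l k := by
    intro k l
    fin_cases k <;> fin_cases l <;> rfl
  rw [h2, h2, h2, h3, h3, h3] at h1
  have h4 : toMat r Jm i j = (!![0, 0, 1; 0, 1, 0; 1, 0, 0] : Matrix (Fin 3) (Fin 3) F) i j := by
    fin_cases i <;> fin_cases j <;> simp [toMat, entry, Jm, ev_one, ev_zero]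
  rw [← h4, ← h1]
  rfl

/-- the letters as elements of the free group on three generators -/
def tr6 (s : ℕ) : FreeGroup (Fin 3) :=
  if s = 0 then FreeGroup.of 0 else if s = 1 then (FreeGroup.of 0)⁻¹
  else if s = 2 then FreeGroup.of 1 else if s = 3 then (FreeGroup.of 1)⁻¹
  else if s = 4 then FreeGroup.of 2 else if s = 5 then (FreeGroup.of 2)⁻¹ else 1

/-- the letters in a group with three marked elements -/
def let6 {G : Type*} [Group G] (u : Fin 3 → G) (s : ℕ) : G :=
  if s = 0 then u 0 else if s = 1 then (u 0)⁻¹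
  else if s = 2 then u 1 else if s = 3 then (u 1)⁻¹
  else if s = 4 then u 2 else if s = 5 then (u 2)⁻¹ else 1

theorem lift_tr6 {G : Type*} [Group G] (u : Fin 3 → G) (s : ℕ) :
    FreeGroup.lift u (tr6 s) = let6 u s := by
  unfold tr6 let6
  split_ifs <;> simp

theorem lift_wprod {G : Type*} [Group G] (u : Fin 3 → G) (l : List ℕ) :
    FreeGroup.lift u (wprod tr6 l) = wprod (let6 u) l := by
  rw [← WPres.wprod_map (FreeGroup.lift u) tr6 l]
  congr 1
  funext s
  exact lift_tr6 u s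

/-- the relators on three generators -/
def relL (relsL : List (List ℕ)) : List (FreeGroup (Fin 3)) := relsL.map (wprod tr6)

theorem let6_lt {G : Type*} [Group G] (u u' : Fin 3 → G) (h : ∀ i, u i = u' i) (s : ℕ) :
    let6 u s = let6 u' s := by
  unfold let6
  rw [h 0, h 1, h 2]

section Asm

variable {F : Type u} [Field F] [Fintype F] {q t d : ℕ}

/-- the inverse in coordinates -/
theorem cj_inv_eq {σ : F →+* F} (c : Coords F q σ) (X : ↥(Cfsg.SU 3 F q)) (M : Matrix (Fin 3) (Fin 3) F)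
    (h : c.cj X * M = 1) : c.cj X⁻¹ = M := by
  calc c.cj X⁻¹ = c.cj X⁻¹ * (c.cj X * M) := by rw [h, Matrix.mul_one]
    _ = (c.cj X⁻¹ * c.cj X) * M := by rw [Matrix.mul_assoc]
    _ = M := by rw [c.cj_inv_mul, Matrix.one_mul]

/-- the presentation on three marked elements from the data, in given coordinates -/
theorem pres_of_data_c (hqp : q.Prime) (hF : Fintype.card F = q ^ 2)
    (r : F) (hr : r * r = (t : F) * r + (d : F)) (hrq : r ^ q = (t : F) - r) (hne : (t : F) - r ≠ r)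
    {σ : F →+* F} (hσ : ∀ x, σ x = x ^ q) (c : Coords F q σ)
    (Lm : ℕ → M3)
    (hdet0 : mdetT q t d (Lm 0) = (1, 0)) (hdet2 : mdetT q t d (Lm 2) = (1, 0))
    (hdet4 : mdetT q t d (Lm 4) = (1, 0))
    (hJ0 : mmulT q t d (mtr (Lm 0)) (mrev (mconjT q t (Lm 0))) = Jm)
    (hJ2 : mmulT q t d (mtr (Lm 2)) (mrev (mconjT q t (Lm 2))) = Jm)
    (hJ4 : mmulT q t d (mtr (Lm 4)) (mrev (mconjT q t (Lm 4))) = Jm)
    (relsL baseL : List (List ℕ))
    (hbase : baseL = relsL ++ [[0, 1], [1, 0], [2, 3], [3, 2], [4, 5], [5, 4], []])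
    (hlet : lettersK 6 baseL = true)
    (hrel : ∀ b ∈ baseL, wmatT q t d Lm b = mone)
    (W1 W2 : List (List ℕ)) (hlet1 : lettersK 6 W1 = true) (hlet2 : lettersK 6 W2 = true)
    (hc1 : incK (W1.map (fun w => colCode q (wmatT q t d Lm w) 0)) = true)
    (hc2 : incK (W2.map (fun w => colCode q (wmatT q t d Lm w) 2)) = true)
    (hfix : fixK q t d Lm W2 = true)
    (hN : W1.length * W2.length = q ^ 3 * ((q ^ 2 - 1) * (q ^ 3 + 1)))
    (hcard : Finite (WPres.Grp 6 baseL) ∧
      Nat.card (WPres.Grp 6 baseL) ≤ q ^ 3 * ((q ^ 2 - 1) * (q ^ 3 + 1)))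
    (hlen : relsL.length ≤ 22) :
    ∃ (g : Fin 3 → ↥(Cfsg.SU 3 F q)) (L : List (FreeGroup (Fin 3))), L.length ≤ 22 ∧
      Subgroup.closure (Set.range g) = ⊤ ∧ (∀ x ∈ L, FreeGroup.lift g x = 1) ∧
      (∀ (G : Type) [Group G] (u : Fin 3 → G), (∀ x ∈ L, FreeGroup.lift u x = 1) →
        ∃ φ : ↥(Cfsg.SU 3 F q) →* G, ∀ i, φ (g i) = u i) ∧
      c.cj (g 0) = toMat r (Lm 0) ∧ c.cj (g 1) = toMat r (Lm 2) ∧ c.cj (g 2) = toMat r (Lm 4) := by
  classical
  have hcp : CharP F q := charP_of_card hqp (by norm_num) hF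
  have hq : (q : F) = 0 := CharP.cast_eq_zero F q
  have hq0 : 0 < q := hqp.pos
  have hσr : σ r = (t : F) - r := by rw [hσ]; exact hrq
  have hne' : σ r ≠ r := by rw [hσr]; exact hne
  -- the three elements
  obtain ⟨X0, hX0⟩ := c.exists_lift _ (presJ_toMat hq hq0 hr σ hσr _ hJ0)
    (by rw [det_toMatT hq hq0 hr, hdet0, ev_one])
  obtain ⟨X2, hX2⟩ := c.exists_lift _ (presJ_toMat hq hq0 hr σ hσr _ hJ2)
    (by rw [det_toMatT hq hq0 hr, hdet2, ev_one])
  obtain ⟨X4, hX4⟩ := c.exists_lift _ (presJ_toMat hq hq0 hr σ hσr _ hJ4)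
    (by rw [det_toMatT hq hq0 hr, hdet4, ev_one])
  let g : Fin 3 → ↥(Cfsg.SU 3 F q) := ![X0, X2, X4]
  have hmem : ∀ b, b ∈ baseL ↔ b ∈ relsL ∨ b ∈ [[0, 1], [1, 0], [2, 3], [3, 2], [4, 5], [5, 4], ([] : List ℕ)] := by
    intro b
    rw [hbase, List.mem_append]
  have hpair : ∀ a b : ℕ, [a, b] ∈ baseL → toMat r (Lm a) * toMat r (Lm b) = 1 := by
    intro a b hab
    have h1 := hrel _ hab
    have h2 : wmatT q t d Lm [a, b] = mmulT q t d (Lm a) (mmulT q t d (Lm b) mone) := rfl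
    rw [h2] at h1
    have h3 := congrArg (toMat r) h1
    rw [toMat_mmulT hq hr, toMat_mmulT hq hr, toMat_mone, Matrix.mul_one] at h3
    exact h3
  have hg6 : ∀ s < 6, c.cj (let6 g s) = toMat r (Lm s) := by
    intro s hs
    interval_cases s
    · exact hX0
    · show c.cj (X0)⁻¹ = _
      apply cj_inv_eq
      rw [hX0]
      exact hpair 0 1 ((hmem _).mpr (Or.inr (by simp)))
    · exact hX2
    · show c.cj (X2)⁻¹ = _
      apply cj_inv_eq
      rw [hX2]
      exact hpair 2 3 ((hmem _).mpr (Or.inr (by simp)))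
    · exact hX4
    · show c.cj (X4)⁻¹ = _
      apply cj_inv_eq
      rw [hX4]
      exact hpair 4 5 ((hmem _).mpr (Or.inr (by simp)))
  -- the relators hold
  have hw1 : ∀ b ∈ baseL, wprod (let6 g) b = 1 := by
    intro b hb
    apply c.cj_eq_one
    rw [cj_wprod c (let6 g) Lm hq hr hg6 b (fun s hs => lettersK_lt hlet hb hs), hrel b hb]
    exact toMat_mone
  -- the subgroup generated by the three elements is the whole group
  have hcl : Subgroup.closure (Set.range g) = ⊤ := by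
    set H := Subgroup.closure (Set.range g) with hH
    have hgi : ∀ i, g i ∈ H := fun i => Subgroup.subset_closure ⟨i, rfl⟩
    have hH6 : ∀ s < 6, let6 g s ∈ H := by
      intro s hs
      interval_cases s
      · exact hgi 0
      · exact H.inv_mem (hgi 0)
      · exact hgi 1
      · exact H.inv_mem (hgi 1)
      · exact hgi 2
      · exact H.inv_mem (hgi 2)
    have h1 := count_le c (let6 g) Lm hr hne' hg6 W1 W2 hlet1 hlet2 hc1 hc2 hfix H hH6
    rw [hN, ← card_SU3 hF] at h1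
    exact Subgroup.eq_top_of_le_card H h1
  -- the homomorphism from the presented group
  obtain ⟨π, hπ⟩ := WPres.hlift 6 baseL hlet (let6 g) hw1
  have hsurj : Function.Surjective π := by
    rw [← MonoidHom.range_eq_top, eq_top_iff, ← hcl, Subgroup.closure_le]
    rintro _ ⟨i, rfl⟩
    fin_cases i
    · exact ⟨WPres.v 6 baseL 0, hπ 0 (by norm_num)⟩
    · exact ⟨WPres.v 6 baseL 2, hπ 2 (by norm_num)⟩
    · exact ⟨WPres.v 6 baseL 4, hπ 4 (by norm_num)⟩
  haveI := hcard.1
  have hbij : Function.Bijective π := by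
    refine ⟨?_, hsurj⟩
    have h2 : Nat.card (WPres.Grp 6 baseL) ≤ Nat.card ↥(Cfsg.SU 3 F q) := by
      rw [card_SU3 hF]
      exact hcard.2
    exact ((Nat.bijective_iff_surjective_and_card π).mpr
      ⟨hsurj, le_antisymm h2 (Nat.card_le_card_of_surjective π hsurj)⟩).1
  let e : WPres.Grp 6 baseL ≃* ↥(Cfsg.SU 3 F q) := MulEquiv.ofBijective π hbij
  have hlen' : (relL relsL).length ≤ 22 := by
    unfold relL
    rw [List.length_map]
    exact hlen
  refine ⟨g, relL relsL, hlen', hcl, ?_, ?_, hX0, hX2, hX4⟩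
  · intro x hx
    unfold relL at hx
    rw [List.mem_map] at hx
    obtain ⟨b, hb, rfl⟩ := hx
    rw [lift_wprod]
    exact hw1 b ((hmem b).mpr (Or.inl hb))
  · intro G _ u hu
    have hw2 : ∀ b ∈ baseL, wprod (let6 u) b = 1 := by
      intro b hb
      rcases (hmem b).mp hb with hb | hb
      · rw [← lift_wprod]
        exact hu _ (List.mem_map_of_mem hb)
      · simp only [List.mem_cons, List.not_mem_nil, or_false] at hb
        rcases hb with rfl | rfl | rfl | rfl | rfl | rfl | rfl <;>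
          simp [wprod, let6]
    obtain ⟨ρ, hρ⟩ := WPres.hlift 6 baseL hlet (let6 u) hw2
    refine ⟨ρ.comp e.symm.toMonoidHom, ?_⟩
    intro i
    have hi : ∀ k < 3, ∀ (i : Fin 3), i.val = k → e.symm (g i) = WPres.v 6 baseL (2 * k) := by
      intro k hk i hik
      rw [MulEquiv.symm_apply_eq]
      show g i = π (WPres.v 6 baseL (2 * k))
      rw [hπ (2 * k) (by omega)]
      interval_cases k <;> fin_cases i <;> simp_all [let6, g]
    show ρ (e.symm (g i)) = u i
    rw [hi i.val i.isLt i rfl, hρ _ (by omega)]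
    fin_cases i <;> simp [let6]

/-- the presentation on three marked elements from the data -/
theorem pres_of_data (hqp : q.Prime) (hF : Fintype.card F = q ^ 2)
    (r : F) (hr : r * r = (t : F) * r + (d : F)) (hrq : r ^ q = (t : F) - r) (hne : (t : F) - r ≠ r)
    (Lm : ℕ → M3)
    (hdet0 : mdetT q t d (Lm 0) = (1, 0)) (hdet2 : mdetT q t d (Lm 2) = (1, 0))
    (hdet4 : mdetT q t d (Lm 4) = (1, 0))
    (hJ0 : mmulT q t d (mtr (Lm 0)) (mrev (mconjT q t (Lm 0))) = Jm)
    (hJ2 : mmulT q t d (mtr (Lm 2)) (mrev (mconjT q t (Lm 2))) = Jm)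
    (hJ4 : mmulT q t d (mtr (Lm 4)) (mrev (mconjT q t (Lm 4))) = Jm)
    (relsL baseL : List (List ℕ))
    (hbase : baseL = relsL ++ [[0, 1], [1, 0], [2, 3], [3, 2], [4, 5], [5, 4], []])
    (hlet : lettersK 6 baseL = true)
    (hrel : ∀ b ∈ baseL, wmatT q t d Lm b = mone)
    (W1 W2 : List (List ℕ)) (hlet1 : lettersK 6 W1 = true) (hlet2 : lettersK 6 W2 = true)
    (hc1 : incK (W1.map (fun w => colCode q (wmatT q t d Lm w) 0)) = true)
    (hc2 : incK (W2.map (fun w => colCode q (wmatT q t d Lm w) 2)) = true)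
    (hfix : fixK q t d Lm W2 = true)
    (hN : W1.length * W2.length = q ^ 3 * ((q ^ 2 - 1) * (q ^ 3 + 1)))
    (hcard : Finite (WPres.Grp 6 baseL) ∧
      Nat.card (WPres.Grp 6 baseL) ≤ q ^ 3 * ((q ^ 2 - 1) * (q ^ 3 + 1)))
    (hlen : relsL.length ≤ 22) :
    ∃ (g : Fin 3 → ↥(Cfsg.SU 3 F q)) (L : List (FreeGroup (Fin 3))), L.length ≤ 22 ∧
      Subgroup.closure (Set.range g) = ⊤ ∧ (∀ x ∈ L, FreeGroup.lift g x = 1) ∧
      ∀ (G : Type) [Group G] (u : Fin 3 → G), (∀ x ∈ L, FreeGroup.lift u x = 1) →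
        ∃ φ : ↥(Cfsg.SU 3 F q) →* G, ∀ i, φ (g i) = u i := by
  obtain ⟨σ, hσ⟩ := Cfsg.Agent.Lib.Lead.exists_frob hF
  obtain ⟨c⟩ := Cfsg.Agent.Lib.Helper19.U3P.exists_coords0 hF σ hσ
  obtain ⟨g, L, h1, h2, h3, h4, -⟩ := pres_of_data_c hqp hF r hr hrq hne hσ c Lm hdet0 hdet2 hdet4 hJ0 hJ2 hJ4
    relsL baseL hbase hlet hrel W1 W2 hlet1 hlet2 hc1 hc2 hfix hN hcard hlen
  exact ⟨g, L, h1, h2, h3, h4⟩

end Asm

end Cfsg.Agent.Lib.Helper12.SU3S
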