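import Cfsg.Agent.Lib.Helper12.SU3S.Main
import Cfsg.Agent.Lib.Helper12.TCG.SU32x54.Rho
import Cfsg.Agent.Lib.Helper12.Ord.SimpleCrit
import Cfsg.Agent.Lib.Helper12.Ord.SubPres

/-!
The special unitary group of degree three over the field of four elements: the data for the marked presentation
on `a = u(1, ω)`, `a' = u(ω, ω)`, `w = antidiag(1, 1, 1)` in the pairs `x + y ω`, `ω * ω = ω + 1` (generated, helper12).
-/

set_option autoImplicit false
set_option maxRecDepth 100000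

namespace Cfsg.Agent.Lib.Helper12.SU3S.Q2

open Cfsg.Agent.Lib.Helper12.TC Cfsg.Agent.Lib.Helper12.TCG Cfsg.Agent.Lib.Helper12.PSU3S
  Cfsg.Agent.Lib.Helper12.SU3S Cfsg.Agent.Lib.Helper12.Ord

/-- the matrices of the letters -/
def Lm (s : ℕ) : M3 :=
  if s = 0 then ⟨(1, 0), (1, 0), (0, 1), (0, 0), (1, 0), (1, 0), (0, 0), (0, 0), (1, 0)⟩
  else if s = 1 then ⟨(1, 0), (1, 0), (1, 1), (0, 0), (1, 0), (1, 0), (0, 0), (0, 0), (1, 0)⟩
  else if s = 2 then ⟨(1, 0), (0, 1), (0, 1), (0, 0), (1, 0), (1, 1), (0, 0), (0, 0), (1, 0)⟩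
  else if s = 3 then ⟨(1, 0), (0, 1), (1, 1), (0, 0), (1, 0), (1, 1), (0, 0), (0, 0), (1, 0)⟩
  else if s = 4 then ⟨(0, 0), (0, 0), (1, 0), (0, 0), (1, 0), (0, 0), (1, 0), (0, 0), (0, 0)⟩
  else ⟨(0, 0), (0, 0), (1, 0), (0, 0), (1, 0), (0, 0), (1, 0), (0, 0), (0, 0)⟩

theorem hdet0 : mdetT 2 1 1 (Lm 0) = (1, 0) := by decide +kernel
theorem hdet2 : mdetT 2 1 1 (Lm 2) = (1, 0) := by decide +kernel
theorem hdet4 : mdetT 2 1 1 (Lm 4) = (1, 0) := by decide +kernel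
theorem hJ0 : mmulT 2 1 1 (mtr (Lm 0)) (mrev (mconjT 2 1 (Lm 0))) = Jm := by decide +kernel
theorem hJ2 : mmulT 2 1 1 (mtr (Lm 2)) (mrev (mconjT 2 1 (Lm 2))) = Jm := by decide +kernel
theorem hJ4 : mmulT 2 1 1 (mtr (Lm 4)) (mrev (mconjT 2 1 (Lm 4))) = Jm := by decide +kernel

theorem hrel : ∀ b ∈ SU32Pres.baseL, wmatT 2 1 1 Lm b = mone := by decide +kernel

/-- words which reach all the isotropic vectors -/
def W1 : List (List ℕ) :=
  [[], [4, 2, 4, 0, 4], [4, 1, 4, 3, 4], [4], [0, 0, 4], [0, 4], [1, 4], [2, 0, 4],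
   [3, 0, 4], [2, 4], [3, 4], [2, 4, 0, 4], [3, 4, 0, 4], [4, 0, 4], [1, 4, 2, 4], [4, 2, 0, 4],
   [2, 4, 2, 4], [4, 2, 4], [0, 4, 0, 4], [1, 4, 3, 4], [0, 4, 3, 4], [4, 1, 4], [3, 4, 3, 4], [4, 3, 0, 4],
   [1, 4, 1, 4], [4, 3, 4], [2, 4, 1, 4]]

/-- words which reach all the elements which fix the first vector -/
def W2 : List (List ℕ) :=
  [[], [0, 0], [0], [0, 0, 0], [2, 0], [0, 2], [2], [2, 0, 0]]

theorem hlet1 : lettersK 6 W1 = true := by decide +kernel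
theorem hlet2 : lettersK 6 W2 = true := by decide +kernel
theorem hc1 : incK (W1.map (fun w => colCode 2 (wmatT 2 1 1 Lm w) 0)) = true := by decide +kernel
theorem hc2 : incK (W2.map (fun w => colCode 2 (wmatT 2 1 1 Lm w) 2)) = true := by decide +kernel
theorem hfix : fixK 2 1 1 Lm W2 = true := by decide +kernel
theorem hN : W1.length * W2.length = 2 ^ 3 * ((2 ^ 2 - 1) * (2 ^ 3 + 1)) := by decide +kernel

theorem b_pow : (SU32Pres.v 0) ^ 4 = 1 := by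
  have h := SU32Pres.hbase [0, 0, 0, 0] (by decide)
  simpa [wprod, pow_succ, mul_assoc] using h

theorem hcard : Finite SU32Pres.Grp ∧ Nat.card SU32Pres.Grp ≤ 2 ^ 3 * ((2 ^ 2 - 1) * (2 ^ 3 + 1)) := by
  have h := card_closure_word_le SU32Pres.v [0] 4 (by decide) (by
    rw [wprod_cons, wprod_nil, mul_one]
    exact b_pow)
  have h2 := card_le_of_index SU32x54.Hs 54 4 (by decide) SU32x54.rho_index h.1 h.2
  refine ⟨h2.1, h2.2.trans (by norm_num)⟩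

end Cfsg.Agent.Lib.Helper12.SU3S.Q2
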