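import Cfsg.Agent.Lib.Helper12.SU3S.Main
import Cfsg.Agent.Lib.Helper12.TCG.SU35x15750.Rho
import Cfsg.Agent.Lib.Helper12.Ord.SimpleCrit
import Cfsg.Agent.Lib.Helper12.Ord.SubPres

/-!
The special unitary group of degree three over the field of `5^2` elements: the data for the marked presentation
on `a = u(1, β₀)`, `b = diag(ζ, σ ζ / ζ, 1 / σ ζ)`, `w = antidiag(γ, 1, -1 / γ)` with `ζ = (1, 2)`, `β₀ = (2, 0)`,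
`γ = (0, 1)` in the pairs `x + y s`, `s * s = 0 * s + 2` (generated, helper12).
-/

set_option autoImplicit false
set_option maxRecDepth 100000

namespace Cfsg.Agent.Lib.Helper12.SU3S.Q5

open Cfsg.Agent.Lib.Helper12.TC Cfsg.Agent.Lib.Helper12.TCG Cfsg.Agent.Lib.Helper12.PSU3S
  Cfsg.Agent.Lib.Helper12.SU3S Cfsg.Agent.Lib.Helper12.Ord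

/-- the matrices of the letters -/
def Lm (s : ℕ) : M3 :=
  if s = 0 then ⟨(1, 0), (1, 0), (2, 0), (0, 0), (1, 0), (4, 0), (0, 0), (0, 0), (1, 0)⟩
  else if s = 1 then ⟨(1, 0), (4, 0), (2, 0), (0, 0), (1, 0), (1, 0), (0, 0), (0, 0), (1, 0)⟩
  else if s = 2 then ⟨(1, 2), (0, 0), (0, 0), (0, 0), (3, 2), (0, 0), (0, 0), (0, 0), (2, 4)⟩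
  else if s = 3 then ⟨(2, 1), (0, 0), (0, 0), (0, 0), (3, 3), (0, 0), (0, 0), (0, 0), (1, 3)⟩
  else if s = 4 then ⟨(0, 0), (0, 0), (0, 1), (0, 0), (1, 0), (0, 0), (0, 2), (0, 0), (0, 0)⟩
  else ⟨(0, 0), (0, 0), (0, 4), (0, 0), (1, 0), (0, 0), (0, 3), (0, 0), (0, 0)⟩

theorem hdet0 : mdetT 5 0 2 (Lm 0) = (1, 0) := by decide +kernel
theorem hdet2 : mdetT 5 0 2 (Lm 2) = (1, 0) := by decide +kernel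
theorem hdet4 : mdetT 5 0 2 (Lm 4) = (1, 0) := by decide +kernel
theorem hJ0 : mmulT 5 0 2 (mtr (Lm 0)) (mrev (mconjT 5 0 (Lm 0))) = Jm := by decide +kernel
theorem hJ2 : mmulT 5 0 2 (mtr (Lm 2)) (mrev (mconjT 5 0 (Lm 2))) = Jm := by decide +kernel
theorem hJ4 : mmulT 5 0 2 (mtr (Lm 4)) (mrev (mconjT 5 0 (Lm 4))) = Jm := by decide +kernel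

theorem hrel : ∀ b ∈ SU35Pres.baseL, wmatT 5 0 2 Lm b = mone := by decide +kernel

/-- words which reach all the isotropic vectors -/
def W1 : List (List ℕ) :=
  [[], [4, 3, 4, 2], [5, 3, 4, 2], [4, 4], [4, 2, 4, 2, 2], [4, 4, 2, 2], [3], [4, 2, 4],
   [4, 4, 3, 3], [2, 2, 2], [2], [4, 2, 4, 2], [2, 2, 2, 2], [4, 3, 4], [4, 4, 2, 2, 2], [5, 3, 4],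
   [4, 3, 4, 3], [5, 2, 4, 2], [4, 4, 2], [3, 3, 3], [3, 3], [5, 2, 4], [4, 4, 3], [2, 2],
   [2, 4, 2, 2], [5, 1, 4, 0, 2, 0, 4], [3, 0, 5, 1, 2, 0, 4, 3], [3, 0, 5, 0, 2, 0, 2, 4], [0, 5, 0, 2, 0, 4], [1, 2, 4, 2, 2], [5, 1, 2, 0, 3, 4, 3], [2, 1, 3, 1, 5, 1, 1, 4],
   [2, 0, 3, 1, 5, 0, 0, 4], [5, 0, 2, 0, 4], [4, 2, 0, 4, 3], [4, 0, 0, 2, 0, 0, 4], [5, 1, 2, 0, 4, 1, 1, 4], [3, 0, 2, 1, 1, 4, 0, 4], [1, 5, 0, 2, 0, 4], [4, 2, 1, 4, 3],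
   [4, 1, 1, 2, 1, 1, 4], [5, 0, 2, 1, 4, 0, 0, 4], [3, 1, 2, 0, 0, 4, 1, 4], [0, 5, 1, 2, 1, 4], [0, 2, 4, 2, 2], [5, 0, 2, 1, 3, 4, 3], [2, 0, 3, 0, 5, 0, 0, 4], [2, 1, 3, 0, 5, 1, 1, 4],
   [5, 1, 2, 1, 4], [5, 0, 0, 4], [0, 3, 1, 2, 1, 4, 0, 4], [5, 3, 1, 2, 1, 4, 2], [5, 3, 0, 2, 1, 3, 4], [1, 3, 1, 2, 0, 4, 0, 4], [3, 1, 2, 1, 4, 0, 4], [2, 1, 4, 0, 3, 4],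
   [2, 0, 3, 1, 4, 1, 4], [0, 2, 1, 2, 1, 2, 5], [1, 5, 0, 0, 4], [4, 0, 3, 1, 2, 0, 4], [0, 4, 0, 3, 0, 2, 0, 4], [2, 1, 2, 1, 2, 5], [1, 1, 5, 0, 0, 4], [2, 0, 2, 1, 2, 1, 5],
   [4, 0, 3, 0, 2, 0, 4], [2, 0, 2, 0, 2, 1, 5], [0, 0, 5, 0, 0, 4], [2, 1, 2, 0, 2, 5], [1, 4, 0, 3, 1, 2, 0, 4], [3, 1, 2, 0, 4, 0, 4], [0, 5, 0, 0, 4], [1, 2, 1, 2, 0, 2, 5],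
   [2, 0, 3, 0, 4, 1, 4], [2, 1, 4, 1, 3, 4], [4, 1, 4], [1, 3, 0, 3, 0, 0, 5, 3], [3, 5, 0, 2, 1, 4, 3], [5, 2, 0, 2, 0, 4, 3], [4, 1, 2, 1, 2, 0, 4], [1, 3, 5, 0, 2, 1, 4, 3],
   [0, 3, 0, 3, 0, 5, 3], [3, 0, 3, 1, 1, 5, 3], [1, 4, 1, 4], [3, 1, 2, 1, 5, 1, 1, 4], [1, 3, 0, 3, 1, 1, 5, 3], [1, 1, 4, 1, 4], [2, 0, 2, 1, 2, 0, 5], [0, 3, 0, 3, 1, 5, 3],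
   [3, 0, 3, 0, 5, 3], [0, 3, 0, 3, 0, 0, 5, 3], [3, 0, 3, 1, 5, 3], [1, 3, 0, 3, 0, 5, 3], [2, 0, 2, 0, 2, 0, 5], [0, 0, 4, 1, 4], [0, 5, 2, 0, 2, 0, 4, 3], [0, 4, 1, 2, 1, 2, 0, 4],
   [0, 4, 1, 4], [3, 0, 3, 0, 0, 5, 3], [1, 3, 0, 3, 1, 5, 3], [4, 0, 4], [0, 3, 1, 3, 1, 1, 5, 3], [3, 5, 1, 2, 0, 4, 3], [5, 2, 1, 2, 1, 4, 3], [4, 0, 2, 0, 2, 1, 4],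
   [1, 5, 2, 1, 2, 1, 4, 3], [3, 0, 2, 1, 5, 0, 0, 4], [1, 4, 0, 4], [3, 1, 3, 1, 1, 5, 3], [0, 3, 1, 3, 0, 5, 3], [1, 3, 1, 3, 1, 1, 5, 3], [3, 1, 3, 0, 5, 3], [0, 3, 1, 3, 1, 5, 3],
   [2, 1, 2, 1, 2, 1, 5], [1, 1, 4, 0, 4], [0, 3, 1, 3, 0, 0, 5, 3], [0, 0, 4, 0, 4], [2, 1, 2, 0, 2, 1, 5], [1, 3, 1, 3, 0, 5, 3], [3, 1, 3, 1, 5, 3], [0, 3, 5, 1, 2, 0, 4, 3],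
   [1, 3, 1, 3, 1, 5, 3], [3, 1, 3, 0, 0, 5, 3], [0, 4, 0, 4], [3, 0, 2, 0, 5, 0, 0, 4], [5, 1, 1, 4], [1, 3, 0, 2, 0, 4, 1, 4], [5, 3, 0, 2, 0, 4, 2], [5, 3, 1, 2, 0, 3, 4],
   [0, 3, 0, 2, 1, 4, 1, 4], [3, 0, 2, 1, 4, 1, 4], [1, 5, 1, 1, 4], [0, 2, 0, 2, 1, 2, 5], [2, 1, 3, 1, 4, 0, 4], [2, 0, 4, 0, 3, 4], [4, 1, 3, 1, 2, 1, 4], [2, 1, 2, 1, 2, 0, 5],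
   [1, 1, 5, 1, 1, 4], [2, 0, 2, 1, 2, 5], [1, 2, 1, 3, 1, 4, 0, 4], [4, 1, 3, 0, 2, 1, 4], [0, 2, 1, 3, 0, 4, 0, 4], [2, 0, 2, 0, 2, 5], [0, 0, 5, 1, 1, 4], [2, 1, 2, 0, 2, 0, 5],
   [3, 0, 2, 0, 4, 1, 4], [2, 0, 4, 1, 3, 4], [2, 1, 3, 0, 4, 0, 4], [1, 2, 0, 2, 0, 2, 5], [0, 5, 1, 1, 4], [5, 2, 2, 2], [3, 1, 4, 0, 2, 0, 4, 2], [1, 4, 1, 3, 0, 0, 4],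
   [1, 4, 0, 2, 0, 3, 4, 2], [2, 0, 5, 0, 2, 0, 4, 3], [2, 2, 0, 4, 2], [5, 1, 2, 1, 2, 1, 4], [0, 4, 1, 3, 0, 0, 4], [5, 1, 1, 3, 1, 4], [4, 1, 3, 0, 0, 3, 0, 4], [1, 5, 2, 2, 2],
   [0, 5, 0, 2, 0, 2, 0, 4], [4, 0, 3, 1, 1, 4], [4, 1, 2, 1, 3, 4, 2], [2, 1, 3, 1, 2, 0, 2, 4, 2], [0, 5, 2, 2, 2], [1, 5, 1, 2, 1, 2, 1, 4], [4, 1, 3, 0, 0, 4], [4, 0, 2, 0, 3, 4, 2],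
   [2, 0, 3, 0, 2, 1, 2, 4, 2], [3, 5, 0, 4, 2], [5, 0, 2, 0, 2, 0, 4], [5, 1, 4, 1, 4, 0, 4], [5, 0, 0, 3, 0, 4], [3, 1, 3, 0, 3, 0, 0, 4], [5, 1, 3, 4, 2], [3, 4, 1, 2, 1, 4, 2],
   [0, 3, 1, 4, 1, 1, 4, 2], [1, 3, 1, 4, 0, 0, 4, 2], [3, 4, 0, 2, 1, 3, 4], [4, 0, 2, 0, 3, 0, 4], [1, 3, 1, 5, 0, 4, 2], [0, 0, 5, 1, 3, 4, 2], [3, 1, 5, 1, 4, 2], [4, 1, 1, 2, 0, 2, 0, 4],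
   [1, 3, 4, 1, 2, 1, 4, 2], [3, 1, 4, 1, 1, 4, 2], [3, 0, 3, 1, 1, 3, 0, 4], [0, 3, 1, 5, 0, 4, 2], [1, 5, 1, 3, 4, 2], [1, 1, 3, 1, 5, 0, 4, 2], [0, 5, 1, 3, 4, 2], [1, 3, 1, 5, 1, 4, 2],
   [3, 0, 3, 0, 0, 3, 0, 4], [3, 1, 4, 0, 0, 4, 2], [4, 0, 2, 1, 3, 0, 4], [0, 4, 0, 2, 0, 3, 0, 4], [3, 1, 5, 0, 4, 2], [1, 1, 5, 1, 3, 4, 2], [0, 3, 1, 5, 1, 4, 2], [2, 1, 2, 4, 2],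
   [5, 3, 0, 2, 1, 4, 3], [1, 1, 2, 1, 2, 0, 4, 2], [0, 0, 2, 1, 2, 1, 4, 2], [2, 5, 0, 2, 0, 4, 3], [0, 2, 1, 4, 1, 4, 3], [2, 1, 2, 0, 4, 2], [1, 2, 1, 2, 1, 4, 2], [3, 0, 3, 1, 3, 1, 4],
   [3, 3, 1, 3, 0, 4], [0, 0, 2, 1, 2, 0, 4, 2], [0, 2, 1, 2, 1, 4, 2], [2, 1, 4, 0, 4, 3], [1, 2, 1, 2, 4, 2], [1, 5, 3, 0, 2, 1, 4, 3], [1, 1, 2, 1, 2, 1, 4, 2], [0, 2, 5, 0, 2, 0, 4, 3],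
   [0, 2, 1, 2, 4, 2], [2, 1, 4, 1, 4, 3], [1, 2, 1, 2, 0, 4, 2], [1, 2, 1, 4, 0, 4, 3], [4, 1, 1, 2, 0, 4], [3, 0, 3, 0, 3, 1, 4], [0, 2, 1, 2, 0, 4, 2], [2, 1, 2, 1, 4, 2],
   [2, 0, 2, 4, 2], [5, 3, 1, 2, 0, 4, 3], [0, 0, 2, 0, 2, 1, 4, 2], [1, 1, 2, 0, 2, 0, 4, 2], [2, 5, 1, 2, 1, 4, 3], [0, 2, 0, 4, 1, 4, 3], [4, 0, 0, 2, 1, 4], [3, 1, 3, 1, 3, 0, 4],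
   [1, 2, 0, 2, 1, 4, 2], [2, 0, 2, 0, 4, 2], [0, 0, 2, 0, 2, 0, 4, 2], [1, 2, 5, 1, 2, 1, 4, 3], [1, 2, 0, 2, 4, 2], [2, 0, 4, 0, 4, 3], [0, 2, 0, 2, 1, 4, 2], [1, 1, 2, 0, 2, 1, 4, 2],
   [1, 2, 0, 2, 0, 4, 2], [2, 0, 4, 1, 4, 3], [0, 2, 0, 2, 4, 2], [0, 5, 3, 1, 2, 0, 4, 3], [1, 2, 0, 4, 0, 4, 3], [2, 0, 2, 1, 4, 2], [0, 2, 0, 2, 0, 4, 2], [3, 1, 3, 0, 3, 0, 4],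
   [3, 3, 0, 3, 1, 4], [5, 0, 3, 4, 2], [3, 4, 0, 2, 0, 4, 2], [1, 3, 0, 4, 0, 0, 4, 2], [0, 3, 0, 4, 1, 1, 4, 2], [3, 4, 1, 2, 0, 3, 4], [4, 1, 2, 0, 3, 1, 4], [1, 4, 1, 2, 1, 3, 1, 4],
   [3, 0, 5, 1, 4, 2], [0, 0, 5, 0, 3, 4, 2], [1, 3, 0, 5, 0, 4, 2], [0, 0, 3, 0, 5, 1, 4, 2], [1, 5, 0, 3, 4, 2], [0, 3, 0, 5, 0, 4, 2], [3, 1, 3, 1, 1, 3, 1, 4], [3, 0, 4, 1, 1, 4, 2],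
   [0, 3, 4, 0, 2, 0, 4, 2], [3, 0, 4, 0, 0, 4, 2], [3, 1, 3, 0, 0, 3, 1, 4], [1, 3, 0, 5, 1, 4, 2], [0, 5, 0, 3, 4, 2], [4, 1, 2, 1, 3, 1, 4], [0, 3, 0, 5, 1, 4, 2], [1, 1, 5, 0, 3, 4, 2],
   [3, 0, 5, 0, 4, 2], [4, 0, 0, 2, 1, 2, 1, 4], [4, 2, 2, 2], [2, 1, 4, 0, 2, 0, 4, 3], [0, 5, 0, 2, 0, 3, 4, 2], [0, 5, 1, 3, 0, 0, 4], [3, 0, 5, 0, 2, 0, 4, 2], [3, 4, 1, 4, 2],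
   [5, 1, 3, 0, 0, 3, 0, 4], [4, 1, 1, 3, 1, 4], [1, 5, 1, 3, 0, 0, 4], [4, 1, 2, 1, 2, 1, 4], [0, 4, 2, 2, 2], [2, 0, 3, 0, 2, 1, 2, 5, 2], [5, 1, 2, 1, 3, 4, 2], [5, 0, 3, 1, 1, 4],
   [1, 4, 0, 2, 0, 2, 0, 4], [1, 4, 2, 2, 2], [2, 1, 3, 1, 2, 0, 2, 5, 2], [5, 0, 2, 0, 3, 4, 2], [5, 1, 3, 0, 0, 4], [0, 4, 1, 2, 1, 2, 1, 4], [3, 4, 0, 4, 2], [5, 0, 3, 1, 1, 3, 1, 4],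
   [4, 0, 0, 3, 0, 4], [4, 1, 4, 1, 4, 0, 4], [4, 0, 2, 0, 2, 0, 4], [4, 1, 3, 4, 2], [3, 5, 0, 2, 1, 3, 4], [0, 3, 0, 5, 0, 0, 4, 2], [1, 3, 0, 5, 1, 1, 4, 2], [3, 5, 1, 2, 1, 4, 2],
   [5, 0, 2, 0, 3, 0, 4], [5, 1, 1, 2, 0, 2, 0, 4], [3, 0, 4, 1, 4, 2], [1, 1, 4, 1, 3, 4, 2], [0, 3, 0, 4, 0, 4, 2], [0, 3, 5, 1, 2, 1, 4, 2], [0, 4, 1, 3, 4, 2], [1, 3, 0, 4, 0, 4, 2],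
   [3, 1, 3, 0, 0, 3, 1, 5], [3, 0, 5, 1, 1, 4, 2], [0, 0, 3, 0, 4, 0, 4, 2], [3, 0, 5, 0, 0, 4, 2], [3, 1, 3, 1, 1, 3, 1, 5], [0, 3, 0, 4, 1, 4, 2], [1, 4, 1, 3, 4, 2], [5, 0, 2, 1, 3, 0, 4],
   [1, 3, 0, 4, 1, 4, 2], [0, 0, 4, 1, 3, 4, 2], [3, 0, 4, 0, 4, 2], [1, 5, 0, 2, 0, 3, 0, 4], [2, 0, 2, 5, 2], [2, 4, 0, 2, 0, 4, 3], [1, 1, 2, 0, 2, 0, 5, 2], [0, 0, 2, 0, 2, 1, 5, 2],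
   [4, 3, 0, 2, 1, 4, 3], [1, 2, 0, 5, 1, 4, 3], [3, 3, 0, 3, 1, 5], [3, 1, 3, 0, 3, 0, 5], [0, 2, 0, 2, 0, 5, 2], [2, 0, 2, 1, 5, 2], [1, 1, 2, 0, 2, 1, 5, 2], [0, 4, 3, 0, 2, 1, 4, 3],
   [0, 2, 0, 2, 5, 2], [2, 0, 5, 0, 4, 3], [1, 2, 0, 2, 0, 5, 2], [0, 0, 2, 0, 2, 0, 5, 2], [0, 2, 0, 2, 1, 5, 2], [2, 0, 5, 1, 4, 3], [1, 2, 0, 2, 5, 2], [1, 2, 4, 0, 2, 0, 4, 3],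
   [0, 2, 0, 5, 0, 4, 3], [2, 0, 2, 0, 5, 2], [1, 2, 0, 2, 1, 5, 2], [3, 1, 3, 1, 3, 0, 5], [5, 1, 1, 2, 0, 4], [2, 1, 2, 5, 2], [2, 4, 1, 2, 1, 4, 3], [0, 0, 2, 1, 2, 1, 5, 2],
   [1, 1, 2, 1, 2, 0, 5, 2], [4, 3, 1, 2, 0, 4, 3], [1, 2, 1, 5, 1, 4, 3], [2, 1, 2, 1, 5, 2], [0, 2, 1, 2, 0, 5, 2], [3, 0, 3, 0, 3, 1, 5], [5, 0, 0, 2, 1, 4], [1, 1, 2, 1, 2, 1, 5, 2],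
   [1, 2, 1, 2, 0, 5, 2], [2, 1, 5, 0, 4, 3], [0, 2, 1, 2, 5, 2], [0, 2, 4, 1, 2, 1, 4, 3], [0, 0, 2, 1, 2, 0, 5, 2], [1, 4, 3, 1, 2, 0, 4, 3], [1, 2, 1, 2, 5, 2], [2, 1, 5, 1, 4, 3],
   [0, 2, 1, 2, 1, 5, 2], [0, 2, 1, 5, 0, 4, 3], [3, 3, 1, 3, 0, 5], [3, 0, 3, 1, 3, 1, 5], [1, 2, 1, 2, 1, 5, 2], [2, 1, 2, 0, 5, 2], [4, 0, 3, 4, 2], [3, 5, 1, 2, 0, 3, 4],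
   [1, 3, 1, 5, 1, 1, 4, 2], [0, 3, 1, 5, 0, 0, 4, 2], [3, 5, 0, 2, 0, 4, 2], [5, 1, 2, 0, 3, 1, 4], [0, 3, 1, 4, 0, 4, 2], [1, 1, 4, 0, 3, 4, 2], [3, 1, 4, 1, 4, 2], [0, 5, 1, 2, 1, 3, 1, 4],
   [1, 1, 3, 1, 4, 1, 4, 2], [3, 1, 5, 1, 1, 4, 2], [3, 0, 3, 0, 0, 3, 0, 5], [1, 3, 1, 4, 0, 4, 2], [0, 4, 0, 3, 4, 2], [1, 3, 5, 0, 2, 0, 4, 2], [1, 4, 0, 3, 4, 2], [0, 3, 1, 4, 1, 4, 2],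
   [3, 0, 3, 1, 1, 3, 0, 5], [3, 1, 5, 0, 0, 4, 2], [5, 1, 2, 1, 3, 1, 4], [5, 0, 0, 2, 1, 2, 1, 4], [3, 1, 4, 0, 4, 2], [0, 0, 4, 0, 3, 4, 2], [1, 3, 1, 4, 1, 4, 2], [2, 5, 2, 2],
   [1, 4, 0, 2, 0, 4], [3, 1, 4, 0, 2, 0, 2, 4], [3, 1, 4, 1, 2, 0, 4, 3], [4, 1, 4, 0, 2, 0, 4], [0, 2, 5, 2, 2], [4, 0, 2, 0, 4], [2, 1, 3, 0, 4, 0, 0, 4], [2, 0, 3, 0, 4, 1, 1, 4],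
   [4, 1, 2, 0, 3, 4, 3], [5, 2, 0, 4, 3], [0, 4, 0, 2, 0, 4], [3, 1, 2, 0, 0, 5, 0, 4], [2, 1, 1, 2, 0, 2, 0, 4], [5, 0, 0, 2, 0, 0, 4], [3, 3, 0, 4, 3], [1, 4, 1, 2, 1, 4],
   [2, 1, 1, 2, 1, 2, 0, 4], [4, 0, 2, 1, 4, 0, 0, 4], [5, 1, 1, 2, 1, 1, 4], [1, 2, 5, 2, 2], [4, 1, 2, 1, 4], [2, 0, 3, 1, 4, 1, 1, 4], [2, 1, 3, 1, 4, 0, 0, 4], [4, 0, 2, 1, 3, 4, 3],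
   [4, 0, 0, 4], [0, 3, 0, 2, 1, 5, 0, 4], [4, 3, 0, 2, 1, 3, 4], [4, 3, 1, 2, 1, 4, 2], [1, 3, 0, 2, 0, 5, 0, 4], [3, 0, 2, 0, 5, 0, 4], [0, 4, 0, 0, 4], [1, 2, 0, 2, 0, 2, 4],
   [2, 1, 3, 0, 5, 1, 4], [2, 0, 5, 0, 3, 4], [5, 0, 3, 1, 2, 0, 4], [2, 1, 2, 0, 2, 0, 4], [0, 0, 4, 0, 0, 4], [2, 0, 2, 0, 2, 4], [1, 5, 0, 3, 0, 2, 0, 4], [5, 0, 3, 0, 2, 0, 4],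
   [0, 5, 0, 3, 1, 2, 0, 4], [2, 0, 2, 1, 2, 4], [1, 1, 4, 0, 0, 4], [2, 1, 2, 1, 2, 0, 4], [3, 0, 2, 1, 5, 0, 4], [2, 0, 5, 1, 3, 4], [2, 1, 3, 1, 5, 1, 4], [0, 2, 0, 2, 1, 2, 4],
   [1, 4, 0, 0, 4], [5, 1, 4], [5, 1, 2, 1, 2, 0, 4], [4, 2, 0, 2, 0, 4, 3], [3, 4, 0, 2, 1, 4, 3], [0, 3, 1, 3, 1, 1, 4, 3], [1, 1, 3, 1, 3, 0, 4, 3], [3, 0, 2, 0, 4, 1, 1, 4],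
   [0, 5, 1, 4], [3, 1, 3, 0, 0, 4, 3], [1, 3, 1, 3, 1, 4, 3], [0, 3, 1, 3, 0, 0, 4, 3], [3, 1, 3, 1, 4, 3], [1, 3, 1, 3, 0, 4, 3], [2, 1, 2, 0, 2, 1, 4], [0, 0, 5, 1, 4],
   [1, 3, 1, 3, 1, 1, 4, 3], [1, 1, 5, 1, 4], [2, 1, 2, 1, 2, 1, 4], [0, 3, 1, 3, 1, 4, 3], [3, 1, 3, 0, 4, 3], [1, 4, 2, 0, 2, 0, 4, 3], [0, 3, 1, 3, 0, 4, 3], [3, 1, 3, 1, 1, 4, 3],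
   [1, 5, 1, 4], [1, 5, 1, 2, 1, 2, 0, 4], [5, 0, 4], [5, 0, 2, 0, 2, 1, 4], [4, 2, 1, 2, 1, 4, 3], [3, 4, 1, 2, 0, 4, 3], [1, 3, 0, 3, 0, 0, 4, 3], [1, 1, 3, 0, 3, 0, 4, 3],
   [1, 3, 0, 3, 1, 4, 3], [3, 0, 3, 0, 0, 4, 3], [0, 5, 0, 4], [3, 1, 2, 0, 4, 0, 0, 4], [0, 3, 0, 3, 0, 0, 4, 3], [0, 0, 5, 0, 4], [2, 0, 2, 0, 2, 0, 4], [1, 3, 0, 3, 0, 4, 3],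
   [3, 0, 3, 1, 4, 3], [1, 3, 0, 3, 1, 1, 4, 3], [3, 0, 3, 0, 4, 3], [0, 3, 0, 3, 1, 4, 3], [2, 0, 2, 1, 2, 0, 4], [1, 1, 5, 0, 4], [1, 3, 4, 1, 2, 0, 4, 3], [3, 1, 2, 1, 4, 0, 0, 4],
   [1, 5, 0, 4], [3, 0, 3, 1, 1, 4, 3], [0, 3, 0, 3, 0, 4, 3], [4, 1, 1, 4], [1, 3, 1, 2, 0, 5, 1, 4], [4, 3, 1, 2, 0, 3, 4], [4, 3, 0, 2, 0, 4, 2], [0, 3, 1, 2, 1, 5, 1, 4],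
   [3, 1, 2, 0, 5, 1, 4], [2, 1, 5, 0, 3, 4], [2, 0, 3, 0, 5, 0, 4], [1, 2, 1, 2, 0, 2, 4], [0, 4, 1, 1, 4], [5, 1, 3, 1, 2, 1, 4], [0, 2, 0, 3, 0, 5, 0, 4], [2, 1, 2, 0, 2, 4],
   [0, 0, 4, 1, 1, 4], [2, 0, 2, 0, 2, 1, 4], [5, 1, 3, 0, 2, 1, 4], [2, 0, 2, 1, 2, 1, 4], [1, 1, 4, 1, 1, 4], [2, 1, 2, 1, 2, 4], [1, 2, 0, 3, 1, 5, 0, 4], [3, 1, 2, 1, 5, 1, 4],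
   [1, 4, 1, 1, 4], [0, 2, 1, 2, 1, 2, 4], [2, 0, 3, 1, 5, 0, 4], [2, 1, 5, 1, 3, 4], [3, 4, 2], [5, 2, 1, 4, 1, 2, 0, 4], [1, 4, 1, 2, 0, 4, 2], [5, 1, 4, 1, 2, 0, 4, 2],
   [2, 0, 5, 0, 4, 0, 0, 4], [3, 1, 4, 2], [2, 5, 0, 0, 4, 0, 4], [0, 3, 1, 2, 1, 3, 4, 2], [1, 3, 1, 2, 0, 3, 4, 2], [4, 2, 1, 2, 0, 4], [2, 1, 5, 3], [5, 3, 0, 4, 1, 1, 4],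
   [1, 4, 1, 3, 1, 2, 0, 4, 2], [1, 3, 1, 2, 0, 3, 1, 4, 2], [2, 5, 0, 4, 0, 0, 4], [2, 0, 5, 3], [5, 3, 1, 4, 0, 0, 4], [1, 3, 0, 2, 0, 3, 0, 4, 2], [0, 3, 0, 2, 1, 3, 0, 4, 2], [5, 3, 0, 3, 0, 0, 4],
   [3, 0, 4, 2], [4, 3, 1, 1, 3, 0, 4], [1, 3, 0, 2, 0, 3, 4, 2], [0, 3, 0, 2, 1, 3, 4, 2], [4, 2, 0, 2, 1, 4], [1, 3, 4, 2], [2, 0, 3, 1, 2, 1, 5, 3], [4, 0, 2, 1, 4, 2],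
   [5, 0, 3, 0, 0, 4, 3], [2, 1, 3, 1, 2, 0, 5, 3], [2, 0, 3, 1, 2, 0, 5, 3], [3, 1, 2, 1, 3, 4, 2], [3, 0, 2, 1, 2, 1, 5, 3], [1, 4, 2, 1, 2, 0, 4], [1, 3, 1, 4, 2], [3, 1, 2, 1, 3, 1, 4, 2],
   [3, 0, 2, 1, 2, 0, 5, 3], [2, 1, 5, 1, 4, 2, 2], [1, 2, 1, 5, 3], [2, 0, 3, 1, 3, 0, 4, 2], [3, 0, 2, 1, 3, 0, 4, 2], [2, 1, 3, 1, 3, 1, 4, 2], [1, 2, 0, 5, 3], [2, 0, 5, 1, 4, 2, 2],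
   [4, 0, 3, 0, 2, 1, 4, 2], [1, 4, 2, 0, 2, 1, 4], [1, 3, 0, 4, 2], [0, 4, 2, 0, 4, 0, 4], [3, 1, 2, 1, 2, 0, 5, 3], [3, 0, 2, 1, 3, 4, 2], [1, 1, 3, 4, 2], [3, 0, 3, 0, 2, 1, 4, 2],
   [1, 4, 0, 2, 1, 4, 2], [5, 0, 0, 4, 1, 4, 3], [3, 1, 3, 0, 2, 0, 4, 2], [1, 3, 1, 2, 1, 3, 4, 2], [3, 1, 1, 3, 0, 2, 0, 4, 2], [3, 4, 1, 4, 0, 4], [1, 1, 3, 1, 4, 2], [0, 3, 5, 1, 3, 0, 4],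
   [1, 2, 1, 5, 1, 4, 2, 2], [1, 1, 2, 1, 5, 3], [3, 0, 3, 0, 4, 0, 4, 3], [0, 2, 1, 2, 0, 3, 5, 3], [2, 1, 2, 1, 3, 5, 3], [1, 2, 0, 5, 1, 4, 2, 2], [2, 0, 2, 1, 3, 5, 3], [0, 2, 0, 2, 0, 3, 5, 3],
   [3, 1, 3, 0, 4, 1, 4, 3], [1, 1, 2, 0, 5, 3], [1, 3, 0, 2, 1, 3, 4, 2], [0, 3, 4, 0, 4, 1, 4], [1, 1, 3, 0, 4, 2], [4, 2, 0, 4, 0, 4], [3, 0, 0, 3, 0, 2, 1, 4, 2], [0, 0, 3, 4, 2],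
   [3, 1, 3, 1, 2, 0, 4, 2], [0, 4, 1, 2, 0, 4, 2], [5, 1, 1, 4, 0, 4, 3], [3, 0, 3, 1, 2, 1, 4, 2], [0, 3, 1, 2, 0, 3, 4, 2], [1, 3, 4, 1, 4, 0, 4], [0, 0, 3, 1, 4, 2], [3, 5, 1, 3, 0, 4],
   [3, 1, 1, 3, 1, 2, 0, 4, 2], [0, 2, 1, 5, 0, 4, 2, 2], [2, 1, 2, 0, 3, 5, 3], [1, 2, 1, 2, 1, 3, 5, 3], [3, 0, 3, 1, 4, 0, 4, 3], [0, 0, 2, 1, 5, 3], [0, 2, 0, 5, 0, 4, 2, 2], [0, 0, 2, 0, 5, 3],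
   [3, 1, 3, 1, 4, 1, 4, 3], [1, 2, 0, 2, 1, 3, 5, 3], [2, 0, 2, 0, 3, 5, 3], [0, 3, 0, 2, 0, 3, 4, 2], [3, 0, 0, 3, 1, 2, 1, 4, 2], [3, 4, 0, 4, 1, 4], [0, 0, 3, 0, 4, 2], [1, 4, 2, 0, 4, 0, 4],
   [0, 3, 4, 2], [2, 1, 3, 0, 2, 0, 5, 3], [4, 1, 2, 0, 4, 2], [5, 1, 3, 1, 1, 4, 3], [2, 0, 3, 0, 2, 1, 5, 3], [0, 4, 2, 1, 2, 0, 4], [0, 3, 1, 4, 2], [1, 3, 5, 1, 3, 0, 4],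
   [3, 0, 2, 0, 2, 1, 5, 3], [3, 1, 2, 0, 3, 4, 2], [3, 1, 2, 0, 3, 1, 4, 2], [2, 0, 3, 0, 3, 0, 4, 2], [0, 2, 1, 5, 3], [2, 1, 5, 0, 4, 2, 2], [4, 1, 3, 1, 2, 0, 4, 2], [3, 0, 2, 0, 3, 0, 4, 2],
   [3, 1, 2, 0, 2, 1, 5, 3], [2, 0, 5, 0, 4, 2, 2], [0, 2, 0, 5, 3], [2, 1, 3, 0, 3, 1, 4, 2], [2, 1, 3, 0, 2, 1, 5, 3], [3, 0, 2, 0, 3, 4, 2], [3, 1, 2, 0, 2, 0, 5, 3], [0, 4, 2, 0, 2, 1, 4],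
   [0, 3, 0, 4, 2], [5, 3], [1, 4, 1, 2, 0, 3, 4, 2], [3, 1, 4, 1, 2, 0, 4, 2], [2, 0, 5, 1, 2, 0, 4, 3], [0, 5, 0, 4, 0, 0, 4], [1, 3, 1, 1, 3, 1, 4, 2], [0, 0, 2, 1, 3, 1, 5, 3],
   [2, 1, 3, 0, 5, 3], [3, 1, 2, 0, 5, 1, 4, 2, 2], [0, 2, 1, 3, 5, 3], [1, 1, 3, 0, 2, 1, 5, 3], [0, 0, 5, 0, 4, 2, 2], [0, 3, 0, 2, 0, 5, 3], [3, 0, 3, 1, 4, 2], [1, 3, 0, 3, 0, 4, 2],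
   [0, 0, 3, 1, 2, 0, 5, 3], [1, 1, 5, 1, 4, 2, 2], [1, 3, 1, 2, 1, 5, 3], [3, 1, 3, 0, 4, 2], [0, 3, 1, 3, 1, 4, 2], [0, 3, 0, 0, 3, 0, 4, 2], [1, 1, 2, 0, 3, 0, 5, 3], [2, 0, 3, 1, 5, 3],
   [3, 0, 2, 1, 5, 0, 4, 2, 2], [1, 2, 0, 3, 5, 3], [0, 3, 0, 0, 3, 1, 4, 2], [4, 0, 0, 2, 0, 4], [3, 0, 0, 3, 0, 4, 2], [0, 0, 2, 0, 3, 0, 5, 3], [1, 2, 0, 3, 1, 5, 3], [2, 0, 2, 0, 0, 4, 0, 4],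
   [5, 0, 4, 0, 0, 4], [1, 5, 3], [4, 0, 2, 1, 3, 4, 2], [2, 1, 2, 0, 0, 4, 1, 4], [4, 1, 1, 3, 1, 2, 1, 4], [2, 1, 3, 5, 3], [3, 3, 0, 3, 0, 2, 1, 4, 2], [0, 2, 1, 3, 1, 5, 3],
   [2, 5, 1, 2, 0, 4, 3], [1, 3, 0, 3, 1, 4, 2], [1, 1, 3, 0, 3, 0, 4, 2], [0, 0, 3, 0, 2, 1, 5, 3], [0, 5, 0, 4, 2, 2], [3, 0, 2, 0, 5, 3], [1, 3, 1, 3, 0, 4, 2], [3, 1, 3, 1, 4, 2],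
   [0, 3, 1, 2, 0, 5, 3], [0, 0, 5, 1, 4, 2, 2], [1, 1, 3, 1, 2, 1, 5, 3], [0, 0, 3, 1, 2, 1, 5, 3], [1, 1, 3, 1, 3, 0, 4, 2], [1, 3, 1, 3, 1, 4, 2], [3, 1, 2, 0, 5, 3], [0, 5, 1, 4, 2, 2],
   [1, 1, 2, 0, 3, 1, 5, 3], [3, 0, 0, 3, 1, 4, 2], [2, 2, 0, 4, 1, 4], [1, 3, 0, 0, 3, 0, 4, 2], [0, 2, 0, 3, 0, 5, 3], [3, 1, 3, 0, 2, 0, 3, 4, 2], [5, 0, 3, 0, 0, 3, 1, 4], [1, 5, 0, 4, 0, 0, 4],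
   [1, 1, 5, 3], [5, 1, 1, 4, 1, 4], [1, 2, 5, 1, 2, 0, 4, 3], [0, 3, 1, 1, 3, 0, 4, 2], [1, 2, 1, 3, 5, 3], [3, 1, 2, 1, 5, 1, 4, 2, 2], [2, 1, 3, 1, 5, 3], [1, 3, 0, 2, 0, 5, 3],
   [3, 4, 1, 2, 0, 4, 2], [4, 2, 1, 2, 1, 4, 2], [0, 3, 0, 2, 1, 5, 3], [5, 0, 4, 2, 2], [1, 1, 3, 0, 2, 0, 5, 3], [1, 3, 4, 1, 2, 0, 4, 2], [0, 3, 0, 3, 0, 4, 2], [3, 0, 2, 1, 5, 3],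
   [1, 5, 0, 4, 2, 2], [0, 3, 1, 2, 1, 5, 3], [3, 4, 0, 2, 1, 4, 2], [4, 2, 0, 2, 0, 4, 2], [1, 3, 1, 2, 0, 5, 3], [5, 1, 4, 2, 2], [0, 2, 5, 0, 2, 1, 4, 3], [1, 3, 0, 0, 3, 1, 4, 2],
   [0, 2, 0, 3, 5, 3], [3, 0, 2, 0, 5, 0, 4, 2, 2], [2, 0, 3, 0, 5, 3], [3, 0, 3, 1, 2, 1, 3, 4, 2], [5, 1, 3, 1, 1, 3, 0, 4], [3, 4, 2, 1, 2, 0, 4], [0, 0, 5, 3], [5, 0, 0, 4, 0, 4],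
   [0, 0, 2, 1, 3, 0, 5, 3], [3, 1, 1, 3, 0, 4, 2], [2, 2, 1, 4, 0, 4], [0, 3, 1, 1, 3, 1, 4, 2], [1, 2, 1, 3, 1, 5, 3], [1, 3, 1, 1, 3, 0, 4, 2], [2, 2, 0, 4, 0, 4], [3, 1, 1, 3, 1, 4, 2],
   [1, 1, 2, 1, 3, 1, 5, 3], [0, 2, 1, 3, 0, 5, 3], [0, 3, 0, 3, 1, 4, 2], [3, 0, 3, 0, 4, 2], [1, 3, 0, 2, 1, 5, 3], [1, 1, 5, 0, 4, 2, 2], [0, 0, 3, 0, 2, 0, 5, 3], [0, 3, 1, 3, 0, 4, 2],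
   [1, 4, 2, 0, 2, 0, 4, 2], [1, 1, 3, 1, 2, 0, 5, 3], [1, 5, 1, 4, 2, 2], [3, 1, 2, 1, 5, 3], [4, 0, 0, 3, 0, 2, 0, 4], [2, 0, 3, 5, 3], [3, 3, 1, 3, 1, 2, 0, 4, 2], [1, 2, 0, 3, 0, 5, 3],
   [2, 5, 0, 2, 1, 4, 3], [2, 1, 2, 1, 1, 4, 1, 4], [5, 1, 4, 1, 1, 4], [0, 5, 3], [4, 1, 2, 0, 3, 4, 2], [2, 0, 2, 1, 1, 4, 0, 4], [2, 4, 2], [5, 3, 1, 4, 0, 2, 0, 4],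
   [1, 4, 1, 4, 0, 0, 4, 2], [0, 5, 0, 2, 0, 4, 3], [3, 1, 4, 1, 3, 0, 0, 4], [3, 0, 2, 1, 2, 4, 2], [2, 1, 3, 1, 2, 1, 4, 2], [1, 4, 1, 4, 3], [0, 3, 0, 5, 0, 3, 4, 2], [3, 1, 2, 1, 2, 0, 4, 2],
   [2, 0, 2, 1, 3, 4, 2], [0, 2, 0, 2, 0, 3, 4, 2], [3, 1, 3, 0, 5, 0, 4, 2], [1, 1, 2, 0, 4, 2], [1, 5, 3, 0, 3, 0, 4], [2, 1, 2, 0, 3, 4, 2], [1, 2, 1, 2, 1, 3, 4, 2], [3, 0, 3, 1, 5, 1, 4, 2],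
   [0, 0, 2, 1, 4, 2], [0, 2, 4, 1, 4, 0, 4], [3, 1, 2, 0, 2, 4, 2], [2, 0, 3, 0, 2, 0, 4, 2], [0, 4, 0, 4, 3], [1, 3, 1, 5, 1, 3, 4, 2], [3, 0, 2, 0, 2, 1, 4, 2], [0, 2, 1, 4, 2],
   [2, 4, 1, 4, 0, 4], [3, 0, 2, 0, 2, 0, 4, 2], [3, 1, 2, 0, 4, 0, 4, 3], [0, 5, 3, 1, 2, 1, 4], [4, 2, 0, 3, 0, 0, 4], [0, 3, 1, 2, 1, 2, 4, 2], [1, 3, 1, 2, 0, 2, 4, 2], [4, 2, 1, 4, 0, 0, 4],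
   [4, 0, 4, 3], [5, 0, 2, 0, 4, 3], [2, 1, 3, 1, 2, 0, 4, 2], [1, 2, 4, 2], [2, 0, 3, 1, 2, 1, 4, 2], [4, 0, 4, 1, 1, 4, 2], [3, 0, 5, 0, 3, 4, 2], [2, 0, 2, 1, 2, 0, 5, 3],
   [2, 1, 2, 1, 3, 1, 4, 2], [4, 0, 3, 0, 4, 1, 4, 2], [1, 1, 4, 1, 4, 3], [0, 0, 2, 0, 4, 2], [3, 1, 3, 1, 5, 0, 4, 2], [1, 2, 0, 2, 1, 3, 4, 2], [2, 0, 2, 0, 3, 4, 2], [0, 2, 5, 0, 3, 1, 4],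
   [0, 0, 4, 1, 4, 3], [3, 1, 3, 1, 5, 1, 4, 2], [2, 1, 2, 0, 3, 1, 4, 2], [2, 0, 2, 0, 2, 0, 5, 3], [3, 0, 5, 1, 3, 4, 2], [2, 5, 0, 3, 1, 4], [0, 2, 0, 4, 2], [2, 1, 3, 0, 4, 0, 4, 3],
   [3, 0, 2, 0, 4, 1, 4, 3], [3, 1, 2, 0, 2, 1, 4, 2], [5, 3, 1, 2, 1, 4], [2, 1, 4, 2], [3, 5, 0, 0, 3, 0, 4], [3, 5, 0, 2, 0, 2, 0, 4], [4, 2, 1, 2, 0, 2, 1, 4], [1, 4, 0, 4, 3],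
   [2, 0, 3, 1, 2, 0, 4, 2], [3, 1, 2, 1, 2, 4, 2], [3, 0, 2, 1, 2, 1, 4, 2], [0, 3, 1, 5, 0, 3, 4, 2], [5, 1, 1, 3, 0, 4, 2], [4, 1, 1, 4, 0, 4, 2], [4, 0, 2, 1, 2, 0, 4, 2], [1, 1, 2, 4, 2],
   [5, 0, 2, 0, 2, 0, 3, 4], [1, 1, 4, 0, 4, 3], [3, 0, 3, 0, 5, 0, 4, 2], [2, 0, 2, 1, 3, 0, 4, 2], [2, 1, 2, 1, 2, 1, 5, 3], [3, 1, 5, 0, 3, 4, 2], [5, 0, 0, 3, 1, 4, 2], [4, 0, 0, 4, 1, 4, 2],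
   [4, 1, 2, 0, 2, 1, 4, 2], [0, 0, 2, 4, 2], [5, 1, 2, 1, 2, 1, 3, 4], [0, 4, 1, 4, 3], [2, 1, 3, 0, 2, 1, 4, 2], [3, 0, 2, 0, 2, 4, 2], [3, 1, 2, 0, 2, 0, 4, 2], [1, 3, 0, 5, 1, 3, 4, 2],
   [5, 3, 0, 2, 0, 4], [2, 0, 4, 2], [0, 5, 3, 0, 3, 0, 4], [3, 5, 1, 2, 1, 2, 1, 4], [4, 2, 0, 2, 1, 2, 0, 4], [2, 5, 1, 3, 0, 4], [1, 2, 1, 4, 2], [2, 0, 3, 1, 4, 1, 4, 3],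
   [3, 1, 2, 1, 4, 0, 4, 3], [3, 0, 2, 1, 2, 0, 4, 2], [1, 2, 0, 4, 2], [5, 3, 0, 3, 0, 4], [3, 1, 2, 1, 2, 1, 4, 2], [3, 0, 2, 1, 4, 1, 4, 3], [1, 5, 3, 0, 2, 0, 4], [1, 1, 2, 1, 4, 2],
   [3, 0, 3, 0, 5, 1, 4, 2], [0, 2, 1, 2, 0, 3, 4, 2], [2, 1, 2, 1, 3, 4, 2], [1, 2, 5, 1, 3, 0, 4], [3, 1, 5, 1, 3, 4, 2], [2, 1, 2, 0, 2, 1, 5, 3], [2, 0, 2, 0, 3, 0, 4, 2], [4, 1, 3, 1, 4, 0, 4, 2],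
   [0, 0, 4, 0, 4, 3], [5, 1, 2, 1, 4, 3], [2, 0, 3, 0, 2, 1, 4, 2], [0, 2, 4, 2], [2, 1, 3, 0, 2, 0, 4, 2], [4, 1, 4, 0, 0, 4, 2], [4, 2, 1, 3, 1, 1, 4], [1, 3, 0, 2, 0, 2, 4, 2],
   [0, 3, 0, 2, 1, 2, 4, 2], [3, 4, 1, 3, 0, 0, 4], [4, 1, 4, 3], [3, 4, 3], [2, 1, 4, 0, 2, 0, 4], [1, 4, 0, 2, 0, 2, 4], [1, 4, 1, 2, 0, 4, 3], [3, 1, 4, 0, 4, 0, 0, 4],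
   [2, 1, 1, 5, 0, 4], [0, 3, 4, 0, 4, 0, 0, 4], [0, 3, 0, 4, 3], [1, 3, 0, 4, 0, 4, 2, 2], [2, 2, 0, 2, 1, 2, 0, 4], [2, 0, 4, 0, 0, 4], [1, 2, 0, 4, 1, 1, 4], [1, 1, 2, 0, 5, 1, 4],
   [5, 1, 1, 2, 0, 4, 2], [0, 2, 0, 5, 0, 4], [2, 1, 4, 1, 1, 4], [0, 2, 1, 4, 0, 0, 4], [0, 0, 2, 1, 5, 0, 4], [5, 0, 0, 2, 1, 4, 2], [1, 2, 1, 5, 1, 4], [2, 0, 0, 5, 1, 4],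
   [1, 3, 4, 1, 4, 1, 1, 4], [1, 3, 1, 4, 3], [0, 3, 1, 4, 1, 4, 2, 2], [1, 1, 2, 0, 0, 5, 0, 4], [0, 3, 0, 0, 4, 3], [2, 0, 5, 0, 4], [1, 2, 0, 4, 0, 0, 4], [3, 0, 2, 0, 3, 0, 4, 3],
   [0, 4, 3, 0, 2, 1, 4], [3, 3, 1, 3, 0, 5, 2], [1, 1, 2, 1, 5, 1, 4], [1, 2, 1, 4, 1, 1, 4], [2, 1, 4, 0, 0, 4], [0, 2, 1, 5, 0, 4], [3, 1, 4, 1, 4, 2, 2], [0, 0, 2, 0, 0, 5, 0, 4],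
   [1, 2, 0, 0, 5, 1, 4], [0, 3, 1, 4, 0, 4, 2, 2], [1, 1, 3, 1, 4, 3], [4, 0, 2, 1, 4, 3], [0, 4, 1, 2, 1, 2, 1, 4, 2], [1, 3, 4, 3], [1, 2, 1, 4, 0, 2, 0, 4], [4, 1, 2, 1, 2, 4],
   [5, 2, 1, 3, 0, 0, 4], [0, 2, 1, 1, 5, 1, 4], [1, 2, 1, 1, 5, 0, 4], [3, 4, 0, 4, 0, 0, 4], [3, 0, 4, 3], [0, 0, 3, 1, 4, 3], [1, 3, 1, 4, 1, 4, 2, 2], [0, 2, 0, 0, 5, 0, 4],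
   [2, 2, 1, 2, 0, 2, 0, 4], [3, 1, 4, 0, 4, 2, 2], [4, 1, 1, 3, 1, 4, 2], [1, 4, 0, 2, 1, 4, 3], [4, 1, 2, 1, 2, 1, 4, 2], [1, 1, 3, 4, 3], [3, 1, 3, 0, 2, 0, 4, 3], [1, 3, 0, 4, 3],
   [1, 5, 2, 1, 3, 0, 0, 4], [2, 1, 1, 5, 1, 4], [1, 1, 2, 1, 1, 5, 0, 4], [0, 3, 0, 4, 1, 4, 2, 2], [4, 3, 0, 2, 1, 4], [3, 0, 0, 4, 3], [2, 4, 0, 2, 0, 4], [1, 1, 2, 0, 4, 0, 0, 4],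
   [0, 0, 2, 0, 4, 1, 1, 4], [2, 1, 5, 0, 4], [0, 3, 1, 1, 4, 3], [0, 2, 4, 1, 2, 1, 4], [3, 1, 2, 0, 3, 1, 4, 3], [1, 2, 1, 4, 0, 0, 4], [1, 1, 3, 0, 4, 3], [0, 3, 0, 4, 0, 4, 2, 2],
   [1, 2, 1, 1, 5, 1, 4], [0, 0, 2, 1, 1, 5, 0, 4], [3, 0, 4, 1, 4, 2, 2], [2, 0, 5, 1, 4], [1, 3, 0, 0, 4, 3], [1, 2, 4, 0, 2, 0, 4], [3, 0, 2, 1, 3, 0, 4, 3], [0, 2, 0, 4, 1, 1, 4],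
   [4, 3, 1, 2, 0, 4], [3, 1, 1, 4, 3], [2, 4, 1, 2, 1, 4], [0, 0, 2, 1, 4, 1, 1, 4], [1, 1, 2, 1, 4, 0, 0, 4], [0, 3, 1, 4, 3], [0, 2, 0, 4, 0, 2, 0, 4], [2, 0, 0, 5, 0, 4],
   [2, 2, 0, 2, 0, 2, 0, 4], [1, 3, 1, 4, 0, 4, 2, 2], [4, 0, 0, 3, 0, 4, 2], [0, 4, 1, 2, 0, 4, 3], [4, 0, 2, 0, 2, 0, 4, 2], [0, 0, 3, 4, 3], [3, 0, 3, 1, 2, 1, 4, 3], [1, 3, 1, 1, 4, 3],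
   [2, 1, 5, 1, 4], [0, 2, 1, 4, 1, 1, 4], [3, 1, 2, 1, 3, 1, 4, 3], [1, 4, 3, 1, 2, 0, 4], [2, 0, 4, 0, 2, 0, 4], [1, 2, 0, 0, 5, 0, 4], [0, 2, 0, 0, 5, 1, 4], [3, 4, 1, 4, 1, 1, 4],
   [3, 1, 4, 3], [4, 1, 2, 0, 4, 3], [1, 4, 0, 2, 0, 2, 0, 4, 2], [0, 3, 4, 3], [0, 2, 1, 4, 0, 2, 0, 4], [4, 0, 2, 0, 2, 4], [3, 0, 4, 0, 4, 2, 2], [2, 2, 1, 2, 1, 2, 0, 4],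
   [0, 2, 1, 1, 5, 0, 4], [1, 3, 0, 4, 1, 4, 2, 2], [0, 0, 3, 0, 4, 3], [3, 3, 0, 3, 1, 5, 2], [0, 0, 2, 0, 5, 0, 4], [0, 2, 0, 4, 0, 0, 4], [2, 0, 4, 1, 1, 4], [1, 2, 0, 5, 1, 4],
   [2, 5], [0, 5, 0, 3, 0, 0, 4], [2, 0, 5, 1, 2, 0, 2, 4], [0, 2, 1, 3, 1, 2, 0, 5], [0, 5, 1, 4, 0, 0, 4], [3, 0, 2, 1, 2, 0, 5], [0, 3, 0, 3, 0, 4, 0, 4], [2, 1, 3, 1, 2, 5],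
   [3, 1, 2, 1, 2, 0, 0, 5], [1, 2, 1, 5], [0, 4, 1, 2, 0, 4, 0, 4], [1, 1, 2, 1, 1, 5], [4, 1, 2, 1, 4, 0, 4], [3, 0, 4, 1, 3, 4], [3, 1, 3, 0, 4, 0, 4], [1, 4, 0, 2, 1, 4, 1, 4],
   [0, 0, 2, 0, 0, 5], [4, 0, 2, 0, 4, 1, 4], [3, 1, 4, 0, 3, 4], [5, 0, 3, 0, 4, 1, 4], [3, 1, 2, 0, 2, 1, 5], [1, 3, 1, 3, 1, 4, 1, 4], [2, 0, 3, 0, 2, 5], [3, 0, 2, 0, 2, 1, 1, 5],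
   [0, 2, 0, 5], [0, 2, 1, 2, 0, 3, 5], [1, 1, 2, 1, 5], [2, 1, 2, 1, 3, 5], [3, 0, 3, 0, 4, 0, 4], [1, 2, 1, 3, 1, 2, 5], [3, 1, 3, 1, 4, 0, 4], [3, 0, 4, 0, 3, 4],
   [4, 1, 2, 0, 4, 0, 4], [0, 0, 2, 1, 1, 5], [1, 4, 1, 2, 1, 4, 0, 4], [1, 3, 1, 4, 0, 3, 4], [2, 0, 3, 0, 2, 0, 5], [3, 0, 2, 0, 2, 1, 5], [0, 2, 0, 0, 5], [3, 1, 2, 0, 2, 5],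
   [5, 1, 1, 3, 0, 2, 1, 4], [2, 0, 5], [1, 3, 1, 2, 0, 2, 1, 5], [2, 5, 0, 2, 1, 2, 4], [4, 3, 1, 2, 1, 4, 3], [2, 1, 3, 1, 2, 0, 5], [5, 1, 4, 0, 0, 4], [1, 2, 5],
   [5, 0, 3, 0, 0, 4], [2, 0, 3, 1, 2, 1, 5], [3, 1, 2, 0, 2, 0, 5], [2, 1, 3, 0, 2, 1, 5], [1, 3, 0, 4, 0, 3, 4], [3, 0, 2, 0, 2, 5], [0, 2, 1, 1, 5], [1, 3, 1, 2, 0, 2, 5],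
   [3, 5, 0, 2, 0, 3, 4], [4, 2, 1, 2, 0, 4, 2], [0, 3, 1, 2, 1, 2, 5], [2, 0, 0, 5], [1, 4, 3, 1, 2, 1, 4, 3], [3, 1, 2, 1, 2, 1, 5], [1, 2, 0, 5], [3, 0, 2, 1, 2, 1, 1, 5],
   [2, 0, 3, 1, 2, 5], [3, 0, 3, 0, 5, 0, 0, 4], [5, 1, 2, 0, 2, 1, 4], [4, 0, 0, 3, 1, 4], [1, 1, 2, 5], [5, 0, 0, 4, 1, 4], [3, 0, 3, 1, 4, 0, 4], [2, 1, 2, 0, 3, 5],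
   [0, 0, 2, 1, 5], [1, 2, 1, 2, 1, 3, 5], [0, 2, 1, 3, 0, 2, 5], [3, 0, 2, 1, 2, 1, 5], [2, 0, 3, 1, 2, 0, 5], [0, 3, 1, 4, 1, 3, 4], [3, 1, 2, 1, 2, 5], [1, 2, 0, 0, 5],
   [3, 1, 3, 0, 4, 1, 4], [2, 0, 2, 1, 3, 5], [1, 1, 2, 0, 5], [0, 2, 0, 2, 0, 3, 5], [1, 2, 0, 3, 1, 2, 5], [3, 1, 3, 1, 5, 1, 1, 4], [5, 0, 2, 1, 2, 0, 4], [4, 1, 1, 3, 0, 4],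
   [0, 0, 2, 5], [5, 1, 1, 4, 0, 4], [0, 4, 3, 0, 2, 0, 4, 3], [3, 0, 2, 0, 2, 0, 5], [0, 2, 1, 5], [3, 1, 2, 0, 2, 0, 0, 5], [2, 1, 3, 0, 2, 5], [0, 3, 0, 2, 1, 2, 5],
   [3, 5, 1, 2, 1, 3, 4], [4, 2, 0, 2, 1, 4, 2], [1, 3, 0, 2, 0, 2, 5], [2, 1, 1, 5], [1, 2, 0, 2, 1, 3, 5], [0, 0, 2, 0, 5], [2, 0, 2, 0, 3, 5], [3, 1, 3, 1, 4, 1, 4],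
   [0, 2, 0, 3, 0, 2, 5], [2, 0, 3, 0, 2, 1, 5], [5, 0, 4, 1, 1, 4], [0, 2, 5], [5, 1, 3, 1, 1, 4], [2, 1, 3, 0, 2, 0, 5], [5, 0, 0, 3, 1, 2, 0, 4], [2, 1, 5],
   [0, 3, 0, 2, 1, 2, 0, 5], [2, 5, 1, 2, 0, 2, 4], [4, 3, 0, 2, 0, 4, 3], [0, 3, 0, 4, 1, 3, 4], [2, 1, 3, 1, 2, 1, 5], [3, 1, 2, 1, 2, 0, 5], [1, 2, 1, 1, 5], [3, 0, 2, 1, 2, 5],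
   [3, 0, 3, 0, 4, 1, 4], [3, 1, 4, 1, 3, 4], [4, 0, 2, 1, 4, 1, 4], [1, 1, 2, 0, 0, 5], [4, 1, 1, 2, 1, 2, 0, 4], [4], [1, 4, 0, 4, 0, 0, 4, 2], [2, 1, 4, 1, 2, 0, 4],
   [3, 1, 4, 1, 4, 0, 0, 4], [1, 4, 1, 2, 0, 2, 4], [2, 0, 3, 4], [1, 1, 2, 0, 3, 0, 0, 4], [2, 4, 1, 2, 0, 4], [1, 2, 0, 3, 0, 4], [0, 0, 2, 0, 3, 1, 1, 4], [3, 1, 2, 4],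
   [1, 3, 1, 2, 0, 4], [4, 2, 0, 4, 0, 0, 4], [3, 4, 0, 4, 1, 1, 4], [0, 3, 1, 2, 1, 4], [3, 0, 2, 4], [0, 3, 0, 2, 1, 4], [3, 4, 0, 3, 0, 0, 4], [3, 4, 1, 4, 0, 0, 4],
   [1, 3, 0, 2, 0, 4], [2, 1, 3, 4], [3, 4, 0, 2, 1, 2, 0, 4], [1, 2, 1, 3, 0, 4], [0, 2, 1, 3, 1, 4], [1, 1, 2, 1, 3, 0, 0, 4], [0, 0, 4], [4, 0, 0, 4, 1, 3, 4],
   [3, 1, 3, 1, 2, 0, 2, 4], [3, 0, 3, 1, 2, 1, 2, 4], [4, 1, 1, 4, 1, 4, 2], [0, 2, 0, 3, 0, 4], [1, 2, 0, 3, 1, 1, 4], [0, 0, 2, 0, 3, 4], [2, 0, 3, 0, 0, 4], [1, 1, 2, 0, 3, 1, 4],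
   [0, 3, 1, 2, 0, 4], [3, 1, 2, 0, 0, 4], [1, 3, 1, 2, 1, 1, 4], [1, 1, 3, 1, 2, 1, 4], [0, 0, 3, 1, 2, 4], [0, 3, 0, 2, 0, 4], [0, 0, 3, 0, 2, 4], [1, 1, 3, 0, 2, 1, 4],
   [1, 3, 0, 2, 1, 1, 4], [3, 0, 2, 0, 0, 4], [0, 2, 1, 3, 0, 4], [1, 1, 2, 1, 3, 1, 4], [2, 1, 3, 0, 0, 4], [0, 0, 2, 1, 3, 4], [1, 2, 1, 3, 1, 1, 4], [1, 4],
   [4, 1, 4, 1, 1, 4, 2], [1, 2, 1, 4, 1, 2, 0, 4], [2, 1, 3, 1, 2, 0, 3, 4], [4, 0, 2, 1, 2, 4], [0, 0, 2, 0, 3, 0, 0, 4], [2, 0, 3, 1, 4], [1, 1, 2, 0, 3, 0, 4], [0, 2, 0, 3, 1, 1, 4],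
   [1, 2, 0, 3, 4], [0, 0, 3, 1, 2, 0, 0, 4], [0, 3, 1, 2, 1, 1, 4], [3, 1, 2, 1, 4], [1, 3, 1, 2, 4], [1, 1, 3, 1, 2, 0, 4], [0, 0, 3, 0, 2, 0, 0, 4], [1, 1, 3, 0, 2, 0, 4],
   [1, 3, 0, 2, 4], [3, 0, 2, 1, 4], [0, 3, 0, 2, 1, 1, 4], [0, 0, 2, 1, 3, 0, 0, 4], [1, 2, 1, 3, 4], [0, 2, 1, 3, 1, 1, 4], [1, 1, 2, 1, 3, 0, 4], [2, 1, 3, 1, 4],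
   [0, 4], [4, 0, 4, 0, 0, 4, 2], [5, 3, 1, 2, 0, 2, 0, 4], [2, 0, 3, 0, 2, 1, 3, 4], [4, 1, 2, 0, 2, 4], [1, 1, 2, 0, 3, 1, 1, 4], [0, 2, 0, 3, 4], [1, 2, 0, 3, 0, 0, 4],
   [0, 2, 4, 1, 2, 0, 4], [2, 0, 3, 0, 4], [1, 1, 3, 1, 2, 1, 1, 4], [0, 0, 3, 1, 2, 1, 4], [0, 3, 1, 2, 4], [3, 1, 2, 0, 4], [1, 3, 1, 2, 0, 0, 4], [0, 3, 4, 0, 3, 0, 0, 4],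
   [1, 3, 0, 2, 0, 0, 4], [3, 0, 2, 0, 4], [0, 3, 0, 2, 4], [0, 0, 3, 0, 2, 1, 4], [1, 1, 2, 1, 3, 1, 1, 4], [2, 1, 3, 0, 4], [0, 0, 2, 1, 3, 1, 4], [1, 2, 1, 3, 0, 0, 4],
   [0, 2, 1, 3, 4], [1, 1, 4], [4, 1, 1, 4, 0, 3, 4], [3, 0, 3, 0, 2, 1, 2, 4], [3, 1, 3, 0, 2, 0, 2, 4], [4, 0, 0, 4, 0, 4, 2], [1, 2, 0, 3, 1, 4], [0, 0, 2, 0, 3, 0, 4],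
   [2, 0, 3, 1, 1, 4], [1, 1, 2, 0, 3, 4], [0, 2, 0, 3, 0, 0, 4], [1, 3, 1, 2, 1, 4], [1, 1, 3, 1, 2, 4], [0, 0, 3, 1, 2, 0, 4], [0, 3, 1, 2, 0, 0, 4], [3, 1, 2, 1, 1, 4],
   [1, 3, 0, 2, 1, 4], [3, 0, 2, 1, 1, 4], [0, 3, 0, 2, 0, 0, 4], [0, 0, 3, 0, 2, 0, 4], [1, 1, 3, 0, 2, 4], [1, 2, 1, 3, 1, 4], [0, 2, 1, 3, 0, 0, 4], [1, 1, 2, 1, 3, 4],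
   [2, 1, 3, 1, 1, 4], [0, 0, 2, 1, 3, 0, 4], [4, 3, 3], [0, 5, 1, 2, 0, 3, 4], [3, 0, 5, 1, 2, 0, 4], [2, 0, 5, 1, 3, 0, 0, 4], [0, 5, 0, 2, 0, 4, 2], [3, 1, 1, 3, 0, 5],
   [1, 1, 5, 0, 0, 4, 2], [0, 3, 1, 1, 3, 1, 5], [4, 0, 3, 1, 2, 0, 4, 2], [3, 0, 3, 0, 3, 1, 2, 5], [3, 0, 3, 0, 0, 5], [1, 3, 0, 3, 1, 5], [0, 5, 2, 0, 2, 0, 4], [0, 0, 3, 0, 3, 1, 1, 5],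
   [0, 4, 1, 4, 2], [3, 1, 3, 1, 1, 5], [0, 3, 1, 3, 0, 5], [1, 5, 2, 1, 2, 1, 4], [1, 1, 3, 1, 3, 0, 0, 5], [1, 4, 0, 4, 2], [3, 0, 0, 3, 1, 5], [0, 0, 5, 1, 1, 4, 2],
   [1, 3, 0, 0, 3, 0, 5], [4, 1, 3, 0, 2, 1, 4, 2], [3, 1, 3, 1, 3, 0, 2, 5], [1, 1, 4, 1, 4, 2], [2, 0, 2, 1, 2, 0, 5, 2], [0, 3, 0, 3, 1, 5], [3, 0, 3, 0, 5], [1, 3, 0, 3, 1, 1, 5],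
   [0, 4, 0, 4, 2], [3, 5, 1, 3, 1, 2, 0, 4], [0, 3, 5, 1, 2, 0, 4], [1, 3, 1, 3, 1, 5], [3, 1, 3, 0, 0, 5], [2, 0, 4, 0, 3, 4, 2], [3, 0, 2, 1, 4, 1, 4, 2], [1, 5, 1, 1, 4, 2],
   [0, 3, 0, 0, 3, 0, 5], [2, 1, 3, 1, 4, 0, 4, 2], [0, 5, 1, 2, 1, 4, 2], [4, 2, 1, 4], [4, 1, 1, 4, 1, 4, 3], [3, 0, 3, 1, 2, 1, 3, 5], [4, 2, 1, 2, 1, 2, 0, 4], [2, 5, 1, 3, 0, 0, 4],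
   [3, 3, 1, 3, 0, 2, 0, 5], [5, 0, 0, 4, 2], [3, 3, 0, 3, 0, 2, 1, 5], [4, 3, 0, 4, 0, 0, 4], [0, 5, 1, 1, 4, 2], [3, 0, 2, 0, 4, 1, 4, 2], [2, 0, 4, 1, 3, 4, 2], [2, 1, 3, 0, 4, 0, 4, 2],
   [1, 3, 0, 0, 3, 1, 5], [5, 1, 2, 0, 3, 4], [1, 3, 0, 5, 1, 2, 0, 4], [2, 0, 3, 1, 5, 0, 0, 4, 2], [5, 0, 2, 0, 4, 2], [1, 4, 3, 3], [0, 0, 5, 0, 0, 4, 2], [3, 1, 1, 3, 1, 5],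
   [3, 0, 3, 1, 3, 1, 2, 5], [4, 0, 3, 0, 2, 0, 4, 2], [1, 3, 1, 1, 3, 0, 5], [3, 5, 0, 2, 1, 4], [5, 2, 0, 2, 0, 4], [0, 3, 0, 3, 1, 1, 5], [4, 1, 4, 2], [1, 3, 0, 3, 0, 0, 5],
   [3, 1, 3, 0, 5], [0, 3, 1, 3, 1, 5], [2, 1, 2, 1, 2, 1, 5, 2], [1, 1, 4, 0, 4, 2], [1, 3, 1, 3, 1, 1, 5], [1, 5, 0, 0, 4, 2], [3, 1, 2, 1, 4, 0, 4, 2], [2, 1, 4, 0, 3, 4, 2],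
   [2, 0, 3, 1, 4, 1, 4, 2], [0, 3, 1, 1, 3, 0, 5], [3, 0, 3, 1, 5], [1, 3, 0, 3, 0, 5], [2, 0, 2, 0, 2, 0, 5, 2], [0, 0, 4, 1, 4, 2], [0, 3, 0, 3, 0, 0, 5], [3, 5, 1, 2, 0, 4],
   [5, 2, 1, 2, 1, 4], [1, 3, 1, 3, 0, 0, 5], [4, 0, 4, 2], [0, 3, 1, 3, 1, 1, 5], [1, 1, 5, 1, 1, 4, 2], [3, 0, 0, 3, 0, 5], [3, 1, 3, 0, 3, 0, 2, 5], [4, 1, 3, 1, 2, 1, 4, 2],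
   [0, 3, 0, 0, 3, 1, 5], [5, 0, 2, 1, 3, 4], [0, 3, 0, 5, 1, 2, 0, 4], [2, 1, 3, 0, 5, 1, 1, 4, 2], [5, 1, 2, 1, 4, 2], [0, 4, 3, 3], [0, 0, 4, 0, 4, 2], [2, 1, 2, 0, 2, 1, 5, 2],
   [1, 3, 1, 3, 0, 5], [3, 1, 3, 1, 5], [0, 3, 1, 3, 0, 0, 5], [2, 5, 0, 3, 1, 1, 4], [3, 3, 0, 3, 1, 2, 1, 5], [5, 1, 1, 4, 2], [3, 3, 1, 3, 1, 2, 0, 5], [4, 3, 1, 4, 1, 1, 4],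
   [1, 5, 0, 2, 0, 4, 2], [4, 2, 0, 4], [4, 0, 0, 4, 0, 4, 3], [3, 1, 3, 0, 2, 0, 3, 5], [4, 2, 0, 2, 0, 2, 1, 4], [2, 1, 4, 1, 3, 4, 2], [3, 1, 2, 0, 4, 0, 4, 2], [0, 5, 0, 0, 4, 2],
   [1, 3, 1, 1, 3, 1, 5], [2, 0, 3, 0, 4, 1, 4, 2], [1, 4, 1, 4, 2], [3, 5, 0, 3, 0, 2, 1, 4], [1, 3, 5, 0, 2, 1, 4], [0, 3, 0, 3, 0, 5], [3, 0, 3, 1, 1, 5], [3, 4],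
   [2, 1, 4, 1, 2, 0, 3, 4], [1, 4, 1, 2, 0, 4], [5, 1, 4, 1, 2, 0, 4], [2, 1, 4, 0, 2, 0, 4, 2], [3, 1, 1, 3, 0, 2, 0, 4], [3, 1, 3, 0, 2, 4], [1, 1, 3, 1, 4], [0, 3, 1, 3, 1, 2, 4],
   [1, 3, 1, 2, 1, 3, 4], [4, 1, 3, 1, 2, 0, 4], [3, 1, 2, 0, 3, 1, 4], [2, 0, 3, 0, 3, 0, 4], [0, 3, 1, 1, 4], [2, 1, 5, 0, 4, 2], [4, 0, 3, 0, 2, 1, 4], [3, 0, 2, 1, 3, 0, 4],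
   [2, 1, 3, 1, 3, 1, 4], [1, 3, 0, 0, 4], [2, 0, 5, 1, 4, 2], [3, 0, 0, 3, 1, 2, 1, 4], [3, 0, 3, 1, 2, 4], [0, 0, 3, 0, 4], [1, 3, 0, 3, 0, 2, 4], [0, 3, 0, 2, 0, 3, 4],
   [3, 1, 2, 1, 3, 0, 0, 4], [3, 0, 2, 1, 3, 4], [1, 4, 2, 0, 2, 1, 4, 3], [1, 3, 0, 4], [4, 1, 3, 1, 3, 0, 4], [3, 0, 3, 1, 2, 1, 4], [0, 0, 3, 4], [3, 1, 3, 1, 2, 0, 4],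
   [0, 4, 1, 2, 0, 4], [5, 1, 1, 2, 0, 0, 4], [0, 3, 1, 2, 1, 3, 4], [1, 3, 1, 2, 0, 3, 4], [4, 2, 1, 2, 0, 4, 3], [3, 1, 4], [4, 2, 0, 2, 0, 2, 4], [0, 0, 2, 1, 5, 0, 4, 2],
   [0, 2, 1, 4, 0, 0, 4, 2], [2, 1, 4, 1, 1, 4, 2], [1, 2, 1, 5, 1, 4, 2], [1, 1, 3, 1, 1, 4], [2, 1, 3, 0, 3, 1, 4], [3, 0, 2, 0, 3, 0, 4], [1, 2, 0, 4, 0, 0, 4, 2], [2, 0, 5, 0, 4, 2],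
   [0, 3, 0, 0, 4], [0, 2, 0, 4, 0, 0, 4, 2], [0, 0, 2, 0, 5, 0, 4, 2], [1, 1, 3, 0, 0, 4], [1, 2, 0, 5, 1, 4, 2], [2, 0, 4, 1, 1, 4, 2], [2, 0, 3, 0, 3, 1, 4], [0, 3, 0, 4],
   [2, 1, 3, 0, 3, 1, 1, 4], [3, 0, 2, 0, 3, 4], [3, 1, 2, 0, 3, 0, 0, 4], [5, 1, 1, 3, 1, 2, 0, 4], [4, 0, 2, 1, 4], [4, 1, 2, 1, 2, 4, 2], [2, 1, 3, 1, 3, 0, 0, 4], [1, 3, 4],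
   [1, 3, 1, 3, 0, 2, 4], [0, 0, 3, 1, 4], [3, 1, 3, 1, 2, 4], [3, 1, 1, 3, 1, 2, 0, 4], [0, 3, 1, 2, 0, 3, 4], [1, 3, 1, 2, 0, 3, 1, 4], [2, 4, 1, 2, 1, 4, 2], [3, 1, 1, 4],
   [4, 3, 1, 2, 0, 4, 2], [1, 4, 1, 3, 1, 2, 0, 4], [1, 2, 1, 4, 1, 1, 4, 2], [1, 1, 2, 1, 5, 1, 4, 2], [0, 0, 3, 1, 1, 4], [0, 2, 1, 5, 0, 4, 2], [2, 1, 4, 0, 0, 4, 2], [0, 3, 0, 2, 1, 3, 0, 4],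
   [2, 4, 0, 2, 0, 4, 2], [3, 0, 0, 4], [4, 3, 0, 2, 1, 4, 2], [1, 3, 0, 2, 0, 3, 0, 4], [0, 3, 0, 3, 1, 2, 4], [1, 1, 3, 0, 4], [3, 0, 3, 0, 2, 4], [3, 0, 0, 3, 0, 2, 1, 4],
   [1, 3, 0, 2, 1, 3, 4], [2, 1, 3, 0, 3, 0, 0, 4], [4, 1, 2, 0, 4], [4, 0, 2, 0, 2, 4, 2], [2, 0, 3, 0, 3, 1, 1, 4], [0, 3, 4], [2, 1, 3, 1, 3, 0, 4], [1, 3, 1, 4],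
   [2, 0, 3, 1, 3, 0, 0, 4], [3, 1, 2, 1, 3, 4], [3, 0, 2, 1, 3, 1, 1, 4], [3, 0, 2, 0, 3, 1, 1, 4], [3, 1, 2, 0, 3, 4], [0, 4, 2, 1, 2, 0, 4, 3], [0, 3, 1, 4], [2, 1, 3, 0, 3, 0, 4],
   [2, 0, 3, 1, 3, 0, 4], [3, 1, 2, 1, 3, 1, 4], [0, 2, 1, 4, 1, 1, 4, 2], [2, 1, 5, 1, 4, 2], [1, 3, 1, 1, 4], [1, 1, 2, 0, 5, 1, 4, 2], [1, 2, 0, 4, 1, 1, 4, 2], [2, 0, 4, 0, 0, 4, 2],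
   [0, 2, 0, 5, 0, 4, 2], [0, 0, 3, 0, 0, 4], [1, 3, 0, 2, 0, 3, 4], [0, 3, 0, 2, 1, 3, 4], [4, 2, 0, 2, 1, 4, 3], [3, 0, 4], [4, 2, 1, 2, 1, 2, 4], [3, 1, 3, 0, 2, 0, 4],
   [1, 1, 3, 4], [3, 0, 3, 0, 2, 1, 4], [1, 4, 0, 2, 1, 4], [5, 0, 0, 2, 1, 1, 4], [4, 2], [3, 1, 4, 1, 4, 0, 0, 4, 2], [0, 5, 0, 2, 0, 3, 4, 3], [1, 4, 1, 2, 0, 2, 4, 2],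
   [2, 1, 4, 1, 2, 0, 4, 2], [1, 1, 3, 1, 2, 1, 4, 2], [3, 1, 4, 0, 4, 3], [0, 4, 0, 4, 1, 4], [1, 3, 1, 4, 1, 4, 3], [0, 3, 1, 2, 0, 4, 2], [0, 2, 1, 2, 1, 5, 3], [0, 0, 2, 1, 2, 0, 5, 3],
   [1, 1, 2, 1, 3, 0, 4, 2], [1, 2, 1, 3, 4, 2], [2, 1, 3, 1, 4, 2], [1, 2, 0, 2, 0, 5, 3], [1, 1, 2, 0, 2, 1, 5, 3], [0, 2, 4, 1, 2, 0, 4, 2], [0, 2, 0, 3, 4, 2], [2, 0, 3, 0, 4, 2],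
   [0, 0, 3, 0, 2, 0, 4, 2], [3, 0, 4, 1, 4, 3], [1, 4, 1, 4, 0, 4], [0, 3, 0, 4, 0, 4, 3], [1, 3, 0, 2, 1, 4, 2], [1, 1, 3, 1, 2, 0, 4, 2], [3, 1, 2, 1, 4, 2], [1, 3, 5, 0, 2, 0, 4, 3],
   [5, 1, 3, 0, 4], [0, 3, 1, 4, 1, 4, 3], [0, 0, 2, 1, 3, 1, 4, 2], [1, 1, 2, 1, 2, 1, 5, 3], [1, 2, 1, 2, 0, 5, 3], [2, 1, 3, 0, 4, 2], [0, 2, 1, 3, 4, 2], [0, 0, 2, 0, 3, 0, 4, 2],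
   [0, 2, 0, 2, 0, 5, 3], [2, 0, 2, 1, 5, 3], [1, 2, 0, 3, 1, 4, 2], [1, 1, 2, 0, 3, 4, 2], [0, 3, 0, 2, 1, 4, 2], [1, 3, 0, 2, 0, 4, 2], [3, 5, 1, 2, 1, 4, 3], [3, 0, 2, 4, 2],
   [4, 2, 0, 2, 1, 2, 4], [5, 1, 2, 1, 3, 1, 1, 4], [0, 0, 4, 2], [3, 0, 3, 1, 2, 1, 2, 4, 2], [4, 0, 0, 4, 1, 3, 4, 2], [4, 1, 1, 4, 1, 4, 2, 2], [0, 2, 1, 2, 0, 5, 3], [0, 0, 2, 1, 3, 0, 4, 2],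
   [1, 1, 2, 1, 3, 4, 2], [1, 2, 1, 3, 1, 4, 2], [2, 1, 2, 1, 5, 3], [0, 0, 2, 0, 2, 1, 5, 3], [2, 4, 1, 2, 0, 4, 2], [2, 0, 3, 4, 2], [1, 2, 0, 3, 0, 4, 2], [1, 1, 2, 0, 2, 0, 5, 3],
   [1, 3, 0, 4, 1, 4, 3], [0, 5, 0, 3, 1, 4], [3, 0, 4, 0, 4, 3], [1, 1, 3, 0, 2, 1, 4, 2], [0, 3, 0, 2, 0, 4, 2], [4, 1, 1, 3, 0, 2, 0, 4], [5, 0, 2, 0, 3, 4, 3], [4, 0, 2, 1, 2, 4, 2],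
   [1, 2, 1, 4, 1, 2, 0, 4, 2], [1, 4, 2], [1, 3, 1, 4, 0, 4, 3], [4, 0, 4, 1, 4], [1, 1, 3, 1, 4, 1, 4, 3], [3, 1, 2, 0, 4, 2], [0, 0, 3, 1, 2, 1, 4, 2], [1, 2, 0, 2, 1, 5, 3],
   [1, 1, 2, 0, 3, 1, 4, 2], [0, 0, 2, 0, 3, 4, 2], [0, 2, 0, 3, 0, 4, 2], [2, 0, 2, 0, 5, 3], [0, 3, 0, 4, 1, 4, 3], [4, 1, 4, 0, 4], [0, 0, 3, 0, 4, 0, 4, 3], [3, 0, 2, 1, 4, 2],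
   [1, 1, 3, 0, 2, 0, 4, 2], [4, 0, 0, 3, 1, 2, 1, 4], [5, 1, 2, 1, 3, 4, 3], [4, 1, 2, 0, 2, 4, 2], [5, 3, 1, 2, 0, 2, 0, 4, 2], [0, 4, 2], [0, 3, 1, 4, 0, 4, 3], [1, 5, 1, 3, 0, 4],
   [3, 1, 4, 1, 4, 3], [0, 0, 3, 1, 2, 0, 4, 2], [1, 3, 1, 2, 1, 4, 2], [1, 1, 2, 1, 2, 0, 5, 3], [1, 2, 1, 3, 0, 4, 2], [2, 1, 3, 4, 2], [0, 2, 1, 3, 1, 4, 2], [0, 0, 2, 1, 2, 1, 5, 3],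
   [0, 0, 3, 0, 2, 1, 4, 2], [3, 0, 2, 0, 4, 2], [0, 3, 5, 1, 2, 1, 4, 3], [5, 0, 3, 1, 4], [1, 3, 0, 4, 0, 4, 3], [5, 0, 2, 0, 3, 0, 0, 4], [1, 1, 4, 2], [3, 1, 3, 0, 2, 0, 2, 4, 2],
   [4, 1, 1, 4, 0, 3, 4, 2], [4, 0, 0, 4, 0, 4, 2, 2], [1, 3, 1, 2, 0, 4, 2], [0, 3, 1, 2, 1, 4, 2], [3, 5, 0, 2, 0, 4, 3], [3, 1, 2, 4, 2], [4, 2, 1, 2, 0, 2, 4], [1, 1, 2, 1, 3, 1, 4, 2],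
   [1, 2, 1, 2, 1, 5, 3], [2, 1, 2, 0, 5, 3], [0, 2, 1, 3, 0, 4, 2], [0, 0, 2, 1, 3, 4, 2], [1, 1, 2, 0, 3, 0, 4, 2], [0, 0, 2, 0, 2, 0, 5, 3], [0, 2, 0, 2, 1, 5, 3], [2, 0, 3, 1, 4, 2],
   [1, 2, 0, 3, 4, 2], [5, 2, 2], [1, 4, 0, 2, 0, 3, 4], [3, 1, 4, 0, 2, 0, 4], [2, 1, 4, 0, 3, 0, 0, 4], [1, 4, 1, 3, 0, 0, 4, 3], [2, 1, 2, 0, 4], [0, 0, 2, 1, 2, 4],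
   [1, 2, 1, 2, 1, 4], [0, 2, 1, 2, 1, 1, 4], [3, 0, 3, 1, 3, 1, 4, 3], [3, 0, 4, 1, 1, 4], [0, 3, 0, 5, 0, 4], [0, 0, 3, 0, 5, 1, 4], [1, 1, 3, 0, 4, 0, 0, 4], [1, 5, 0, 3, 4],
   [3, 1, 4, 0, 0, 4], [1, 3, 1, 5, 1, 4], [1, 1, 3, 1, 5, 0, 4], [0, 0, 3, 1, 4, 1, 1, 4], [0, 5, 1, 3, 4], [2, 0, 2, 1, 4], [1, 1, 2, 0, 2, 4], [0, 2, 0, 2, 0, 4],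
   [1, 2, 0, 2, 0, 0, 4], [3, 1, 3, 0, 3, 0, 4, 3], [1, 1, 5, 1, 3, 4], [0, 0, 3, 1, 4, 0, 0, 4], [0, 3, 1, 5, 1, 4], [3, 1, 5, 0, 4], [1, 3, 1, 4, 1, 1, 4], [2, 4, 0, 3, 0, 0, 4],
   [0, 0, 2, 0, 2, 1, 4], [2, 0, 2, 4], [1, 1, 2, 0, 2, 0, 4], [0, 2, 0, 2, 0, 0, 4], [5, 0, 0, 3, 1, 2, 4], [2, 2, 0, 4], [5, 1, 1, 3, 1, 4, 3], [5, 1, 2, 1, 2, 1, 4, 3],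
   [4, 2, 1, 2, 0, 2, 0, 4], [2, 1, 2, 0, 0, 4], [0, 0, 2, 1, 2, 0, 4], [1, 2, 1, 2, 4], [0, 2, 1, 2, 1, 4], [1, 4, 3, 1, 3, 0, 0, 4], [0, 5, 0, 3, 4], [4, 2, 1, 3, 0, 2, 0, 4],
   [0, 3, 4, 0, 2, 0, 4], [1, 3, 0, 5, 1, 4], [3, 0, 4, 0, 0, 4], [0, 2, 1, 2, 4], [1, 1, 2, 1, 2, 1, 4], [2, 1, 2, 1, 1, 4], [0, 0, 2, 1, 2, 0, 0, 4], [1, 2, 1, 2, 0, 4],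
   [3, 0, 5, 0, 4], [0, 3, 0, 5, 1, 4], [0, 0, 3, 0, 4, 0, 0, 4], [1, 1, 5, 0, 3, 4], [1, 3, 0, 4, 1, 1, 4], [3, 4, 1, 2, 1, 4], [5, 3, 0, 0, 3, 0, 4], [0, 3, 1, 4, 1, 1, 4],
   [5, 1, 3, 4], [1, 3, 1, 4, 0, 0, 4], [0, 0, 2, 0, 2, 4], [2, 0, 2, 0, 4], [3, 1, 3, 1, 3, 0, 4, 3], [0, 2, 0, 2, 1, 1, 4], [1, 2, 0, 2, 1, 4], [4, 1, 2, 1, 3, 4],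
   [1, 3, 1, 4, 0, 2, 0, 4], [2, 1, 3, 1, 2, 0, 2, 4], [4, 0, 3, 1, 1, 4, 3], [1, 5, 2, 2], [1, 2, 0, 2, 4], [0, 0, 2, 0, 2, 0, 4], [2, 0, 2, 0, 0, 4], [1, 2, 4, 0, 3, 0, 0, 4],
   [0, 2, 0, 2, 1, 4], [4, 0, 2, 0, 3, 4], [0, 3, 1, 4, 0, 2, 0, 4], [2, 0, 3, 0, 2, 1, 2, 4], [4, 1, 3, 0, 0, 4, 3], [0, 5, 2, 2], [1, 1, 2, 1, 2, 4], [2, 1, 2, 1, 4],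
   [3, 0, 3, 0, 3, 1, 4, 3], [1, 2, 1, 2, 0, 0, 4], [0, 2, 1, 2, 0, 4], [3, 4, 0, 2, 0, 4], [2, 4, 1, 1, 4, 0, 4], [1, 3, 0, 4, 0, 0, 4], [5, 0, 3, 4], [0, 3, 0, 4, 1, 1, 4],
   [3, 1, 5, 1, 4], [1, 3, 1, 5, 0, 4], [1, 1, 3, 1, 4, 1, 1, 4], [0, 0, 5, 1, 3, 4], [0, 3, 1, 4, 0, 0, 4], [0, 0, 5, 0, 3, 4], [1, 1, 3, 0, 4, 1, 1, 4], [1, 3, 0, 5, 0, 4],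
   [3, 0, 5, 1, 4], [0, 3, 0, 4, 0, 0, 4], [1, 5, 1, 3, 4], [1, 1, 3, 1, 4, 0, 0, 4], [1, 3, 4, 1, 2, 1, 4], [0, 3, 1, 5, 0, 4], [3, 1, 4, 1, 1, 4], [2, 0, 2, 1, 1, 4],
   [1, 1, 2, 0, 2, 1, 4], [0, 2, 0, 2, 4], [1, 2, 0, 2, 0, 4], [0, 0, 2, 0, 2, 0, 0, 4], [5, 1, 1, 3, 0, 2, 4], [3, 5, 0, 4], [5, 0, 0, 3, 0, 4, 3], [5, 0, 2, 0, 2, 0, 4, 3],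
   [4, 2, 0, 2, 1, 2, 1, 4], [0, 2, 1, 2, 0, 0, 4], [1, 1, 2, 1, 2, 0, 4], [2, 1, 2, 4], [0, 0, 2, 1, 2, 1, 4], [4, 3, 1, 3, 0, 0, 4], [5], [0, 5, 1, 2, 0, 2, 4],
   [3, 0, 5, 1, 4, 0, 0, 4], [2, 0, 5, 1, 2, 0, 4], [0, 5, 0, 4, 0, 0, 4, 2], [2, 1, 3, 5], [1, 1, 2, 1, 3, 0, 0, 5], [0, 2, 1, 3, 1, 5], [2, 5, 1, 2, 0, 4], [3, 5, 1, 2, 0, 2, 1, 4],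
   [3, 0, 2, 5], [1, 3, 0, 2, 0, 5], [3, 5, 0, 4, 1, 1, 4], [5, 2, 0, 4, 0, 0, 4], [0, 3, 0, 2, 1, 5], [3, 1, 2, 5], [0, 3, 1, 2, 1, 5], [3, 5, 1, 4, 0, 0, 4],
   [3, 5, 0, 3, 0, 0, 4], [1, 3, 1, 2, 0, 5], [2, 0, 3, 5], [0, 0, 2, 0, 3, 1, 1, 5], [1, 2, 0, 3, 0, 5], [2, 5, 0, 2, 1, 4], [3, 5, 0, 2, 1, 2, 0, 4], [1, 1, 5],
   [5, 1, 1, 4, 1, 4, 2], [5, 1, 2, 0, 2, 1, 3, 4], [3, 0, 3, 0, 2, 1, 2, 5], [5, 0, 0, 4, 1, 3, 4], [1, 2, 1, 3, 1, 5], [0, 0, 2, 1, 3, 0, 5], [2, 1, 3, 1, 1, 5], [1, 1, 2, 1, 3, 5],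
   [0, 2, 1, 3, 0, 0, 5], [1, 3, 0, 2, 1, 5], [1, 1, 3, 0, 2, 5], [0, 0, 3, 0, 2, 0, 5], [0, 3, 0, 2, 0, 0, 5], [3, 0, 2, 1, 1, 5], [1, 3, 1, 2, 1, 5], [3, 1, 2, 1, 1, 5],
   [0, 3, 1, 2, 0, 0, 5], [0, 0, 3, 1, 2, 0, 5], [1, 1, 3, 1, 2, 5], [1, 2, 0, 3, 1, 5], [0, 2, 0, 3, 0, 0, 5], [1, 1, 2, 0, 3, 5], [2, 0, 3, 1, 1, 5], [0, 0, 2, 0, 3, 0, 5],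
   [0, 5], [5, 0, 2, 1, 2, 4], [2, 0, 3, 0, 2, 1, 3, 5], [0, 2, 0, 5, 1, 2, 0, 4], [5, 1, 4, 1, 1, 4, 2], [1, 1, 2, 1, 3, 1, 1, 5], [0, 2, 1, 3, 5], [1, 2, 1, 3, 0, 0, 5],
   [0, 0, 2, 1, 3, 1, 5], [2, 1, 3, 0, 5], [0, 5, 2, 0, 4, 0, 0, 4], [0, 0, 3, 0, 2, 1, 5], [0, 3, 0, 2, 5], [3, 0, 2, 0, 5], [1, 3, 0, 2, 0, 0, 5], [0, 3, 5, 1, 4, 0, 0, 4],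
   [1, 3, 1, 2, 0, 0, 5], [3, 1, 2, 0, 5], [0, 3, 1, 2, 5], [0, 0, 3, 1, 2, 1, 5], [1, 1, 2, 0, 3, 1, 1, 5], [2, 0, 3, 0, 5], [0, 2, 5, 0, 2, 1, 4], [1, 2, 0, 3, 0, 0, 5],
   [0, 2, 0, 3, 5], [1, 5], [5, 1, 2, 0, 2, 4], [2, 1, 3, 1, 2, 0, 3, 5], [4, 3, 1, 2, 0, 2, 0, 4], [5, 0, 4, 0, 0, 4, 2], [0, 0, 2, 1, 3, 0, 0, 5], [2, 1, 3, 1, 5],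
   [1, 2, 5, 1, 2, 0, 4], [0, 2, 1, 3, 1, 1, 5], [1, 2, 1, 3, 5], [1, 3, 5, 0, 4, 1, 1, 4], [0, 3, 0, 2, 1, 1, 5], [3, 0, 2, 1, 5], [1, 3, 0, 2, 5], [1, 1, 3, 0, 2, 0, 5],
   [1, 3, 5, 0, 3, 0, 0, 4], [1, 1, 3, 1, 2, 0, 5], [1, 3, 1, 2, 5], [3, 1, 2, 1, 5], [0, 3, 1, 2, 1, 1, 5], [0, 0, 2, 0, 3, 0, 0, 5], [1, 2, 0, 3, 5], [0, 2, 0, 3, 1, 1, 5],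
   [1, 1, 2, 0, 3, 0, 5], [2, 0, 3, 1, 5], [0, 0, 5], [5, 0, 0, 4, 0, 4, 2], [5, 0, 2, 1, 2, 0, 3, 4], [3, 1, 3, 1, 2, 0, 2, 5], [5, 1, 1, 4, 0, 3, 4], [0, 2, 1, 3, 0, 5],
   [1, 2, 1, 3, 1, 1, 5], [0, 0, 2, 1, 3, 5], [2, 1, 3, 0, 0, 5], [1, 1, 2, 1, 3, 1, 5], [0, 3, 0, 2, 0, 5], [3, 0, 2, 0, 0, 5], [1, 3, 0, 2, 1, 1, 5], [1, 1, 3, 0, 2, 1, 5],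
   [0, 0, 3, 0, 2, 5], [0, 3, 1, 2, 0, 5], [0, 0, 3, 1, 2, 5], [1, 1, 3, 1, 2, 1, 5], [1, 3, 1, 2, 1, 1, 5], [3, 1, 2, 0, 0, 5], [0, 2, 0, 3, 0, 5], [1, 1, 2, 0, 3, 1, 5],
   [2, 0, 3, 0, 0, 5], [0, 0, 2, 0, 3, 5], [1, 2, 0, 3, 1, 1, 5], [4, 2, 2], [0, 5, 1, 3, 0, 0, 4, 3], [2, 0, 5, 0, 3, 0, 0, 4], [3, 0, 5, 0, 2, 0, 4], [0, 5, 0, 2, 0, 3, 4],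
   [2, 0, 2, 1, 5], [3, 1, 3, 0, 3, 0, 5, 3], [1, 2, 0, 2, 0, 0, 5], [0, 2, 0, 2, 0, 5], [1, 1, 2, 0, 2, 5], [3, 1, 5, 1, 1, 4], [0, 4, 0, 3, 4], [0, 0, 3, 1, 5, 0, 0, 4],
   [1, 1, 3, 1, 4, 1, 4], [1, 3, 1, 4, 0, 4], [3, 0, 5, 0, 0, 4], [1, 4, 1, 3, 4], [1, 1, 3, 0, 5, 1, 1, 4], [0, 0, 3, 0, 4, 0, 4], [0, 3, 0, 4, 1, 4], [2, 1, 2, 0, 5],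
   [3, 0, 3, 1, 3, 1, 5, 3], [0, 2, 1, 2, 1, 1, 5], [1, 2, 1, 2, 1, 5], [0, 0, 2, 1, 2, 5], [0, 0, 4, 1, 3, 4], [0, 3, 0, 5, 1, 1, 4], [3, 0, 4, 0, 4], [1, 3, 0, 4, 1, 4],
   [1, 1, 3, 0, 5, 0, 0, 4], [2, 5, 0, 3, 0, 0, 4], [2, 5, 1, 4, 0, 0, 4], [0, 0, 2, 1, 2, 1, 5], [2, 1, 2, 5], [1, 1, 2, 1, 2, 0, 5], [4, 0, 0, 3, 1, 2, 4], [5, 2, 1, 2, 0, 2, 0, 4],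
   [4, 1, 2, 1, 2, 1, 4, 3], [4, 1, 1, 3, 1, 4, 3], [3, 4, 1, 4], [2, 0, 2, 1, 1, 5], [0, 5, 3, 1, 3, 0, 0, 4], [1, 2, 0, 2, 0, 5], [0, 2, 0, 2, 5], [1, 1, 2, 0, 2, 1, 5],
   [1, 4, 0, 3, 4], [3, 1, 5, 0, 0, 4], [0, 3, 1, 4, 1, 4], [1, 3, 5, 0, 2, 0, 4], [5, 2, 1, 3, 0, 2, 0, 4], [1, 2, 0, 2, 5], [0, 2, 0, 2, 1, 5], [1, 2, 5, 1, 3, 1, 1, 4],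
   [2, 0, 2, 0, 0, 5], [0, 0, 2, 0, 2, 0, 5], [3, 1, 4, 0, 4], [0, 3, 1, 5, 1, 1, 4], [0, 0, 4, 0, 3, 4], [1, 1, 3, 1, 5, 0, 0, 4], [1, 3, 1, 4, 1, 4], [3, 5, 1, 2, 1, 4],
   [0, 3, 0, 5, 0, 0, 4], [4, 1, 3, 4], [1, 3, 0, 5, 1, 1, 4], [4, 3, 0, 0, 3, 0, 4], [1, 1, 2, 1, 2, 5], [0, 2, 1, 2, 0, 5], [1, 2, 1, 2, 0, 0, 5], [3, 0, 3, 0, 3, 1, 5, 3],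
   [2, 1, 2, 1, 5], [5, 1, 2, 1, 3, 4], [0, 4, 2, 2], [5, 0, 3, 1, 1, 4, 3], [2, 0, 3, 0, 2, 1, 2, 5], [0, 3, 0, 5, 0, 2, 0, 4], [0, 2, 1, 2, 5], [1, 2, 1, 2, 0, 5],
   [0, 2, 5, 0, 3, 0, 0, 4], [2, 1, 2, 1, 1, 5], [1, 1, 2, 1, 2, 1, 5], [5, 0, 2, 0, 3, 4], [1, 4, 2, 2], [5, 1, 3, 0, 0, 4, 3], [2, 1, 3, 1, 2, 0, 2, 5], [1, 3, 0, 5, 0, 2, 0, 4],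
   [0, 0, 2, 0, 2, 5], [1, 2, 0, 2, 1, 5], [0, 2, 0, 2, 1, 1, 5], [3, 1, 3, 1, 3, 0, 5, 3], [2, 0, 2, 0, 5], [3, 5, 0, 2, 0, 4], [1, 3, 1, 5, 1, 1, 4], [4, 0, 3, 4],
   [0, 3, 1, 5, 0, 0, 4], [2, 5, 1, 1, 4, 0, 4], [3, 0, 4, 1, 4], [1, 3, 0, 5, 0, 0, 4], [1, 1, 4, 1, 3, 4], [0, 0, 3, 0, 5, 1, 1, 4], [0, 3, 0, 4, 0, 4], [1, 1, 4, 0, 3, 4],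
   [1, 3, 1, 5, 0, 0, 4], [3, 1, 4, 1, 4], [0, 3, 1, 4, 0, 4], [0, 0, 3, 1, 5, 1, 1, 4], [0, 4, 1, 3, 4], [3, 0, 5, 1, 1, 4], [1, 3, 0, 4, 0, 4], [0, 3, 5, 1, 2, 1, 4],
   [0, 0, 3, 0, 5, 0, 0, 4], [2, 1, 2, 0, 0, 5], [1, 2, 5, 1, 4, 0, 0, 4], [0, 2, 1, 2, 1, 5], [1, 2, 1, 2, 5], [0, 0, 2, 1, 2, 0, 5], [4, 1, 1, 3, 0, 2, 4], [5, 2, 0, 2, 1, 2, 1, 4],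
   [4, 0, 2, 0, 2, 0, 4, 3], [4, 0, 0, 3, 0, 4, 3], [3, 4, 0, 4], [2, 5, 1, 3, 1, 1, 4], [5, 3, 1, 3, 0, 0, 4], [1, 1, 2, 0, 2, 0, 5], [2, 0, 2, 5], [0, 0, 2, 0, 2, 1, 5],
   [5, 2], [2, 0, 5, 1, 2, 0, 4, 2], [0, 5, 1, 2, 0, 2, 4, 2], [1, 4, 0, 2, 0, 3, 4, 3], [3, 0, 5, 1, 4, 0, 0, 4, 2], [0, 0, 3, 0, 2, 0, 5, 2], [1, 3, 0, 2, 1, 5, 2], [0, 3, 0, 5, 1, 4, 3],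
   [1, 5, 0, 4, 1, 4], [3, 0, 5, 0, 4, 3], [1, 2, 0, 2, 0, 4, 3], [2, 0, 3, 0, 5, 2], [0, 2, 0, 3, 5, 2], [0, 2, 5, 0, 2, 1, 4, 2], [1, 1, 2, 0, 2, 1, 4, 3], [0, 2, 1, 2, 1, 4, 3],
   [2, 1, 3, 1, 5, 2], [1, 2, 1, 3, 5, 2], [1, 2, 5, 1, 2, 0, 4, 2], [0, 0, 2, 1, 2, 0, 4, 3], [1, 1, 3, 1, 2, 1, 5, 2], [0, 3, 1, 2, 0, 5, 2], [1, 3, 1, 5, 0, 4, 3], [0, 5, 1, 4, 0, 4],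
   [3, 1, 5, 1, 4, 3], [0, 0, 3, 0, 2, 1, 5, 2], [1, 3, 0, 5, 1, 4, 3], [4, 1, 3, 0, 4], [0, 3, 4, 0, 2, 0, 4, 3], [3, 0, 2, 0, 5, 2], [1, 1, 2, 0, 3, 0, 5, 2], [1, 2, 0, 3, 5, 2],
   [2, 0, 3, 1, 5, 2], [0, 2, 0, 2, 1, 4, 3], [0, 0, 2, 0, 2, 0, 4, 3], [1, 1, 2, 1, 3, 1, 5, 2], [0, 0, 2, 1, 3, 5, 2], [0, 2, 1, 3, 0, 5, 2], [2, 1, 2, 0, 4, 3], [1, 2, 1, 2, 1, 4, 3],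
   [1, 3, 1, 2, 0, 5, 2], [5, 2, 0, 2, 1, 2, 4], [3, 1, 2, 5, 2], [3, 4, 1, 2, 1, 4, 3], [0, 3, 1, 2, 1, 5, 2], [4, 1, 2, 1, 3, 1, 1, 4], [5, 1, 1, 4, 1, 4, 2, 2], [5, 0, 0, 4, 1, 3, 4, 2],
   [5, 1, 2, 0, 2, 1, 3, 4, 2], [1, 1, 5, 2], [1, 2, 0, 2, 1, 4, 3], [2, 0, 2, 0, 4, 3], [0, 2, 0, 3, 0, 5, 2], [0, 0, 2, 0, 3, 5, 2], [1, 1, 2, 0, 3, 1, 5, 2], [1, 1, 2, 1, 2, 0, 4, 3],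
   [0, 0, 2, 1, 2, 1, 4, 3], [0, 2, 1, 3, 1, 5, 2], [2, 1, 3, 5, 2], [2, 5, 1, 2, 0, 4, 2], [0, 3, 1, 5, 1, 4, 3], [1, 3, 1, 2, 1, 5, 2], [0, 0, 3, 1, 2, 0, 5, 2], [3, 1, 5, 0, 4, 3],
   [1, 4, 0, 3, 1, 4], [5, 1, 1, 3, 0, 2, 0, 4], [0, 5, 2], [0, 2, 0, 5, 1, 2, 0, 4, 2], [5, 0, 2, 1, 2, 4, 2], [4, 0, 2, 0, 3, 4, 3], [0, 3, 0, 5, 0, 4, 3], [1, 1, 3, 0, 2, 0, 5, 2],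
   [3, 0, 2, 1, 5, 2], [0, 0, 3, 0, 5, 1, 4, 3], [5, 0, 4, 1, 4], [0, 2, 1, 2, 0, 4, 3], [2, 1, 2, 1, 4, 3], [1, 2, 1, 3, 1, 5, 2], [1, 1, 2, 1, 3, 5, 2], [0, 0, 2, 1, 3, 0, 5, 2],
   [1, 3, 1, 5, 1, 4, 3], [0, 0, 3, 1, 2, 1, 5, 2], [3, 1, 2, 0, 5, 2], [1, 1, 3, 1, 5, 0, 4, 3], [5, 1, 4, 0, 4], [5, 0, 0, 3, 1, 2, 1, 4], [1, 5, 2], [4, 3, 1, 2, 0, 2, 0, 4, 2],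
   [5, 1, 2, 0, 2, 4, 2], [4, 1, 2, 1, 3, 4, 3], [1, 3, 0, 5, 0, 4, 3], [0, 3, 0, 2, 0, 5, 2], [1, 1, 3, 0, 2, 1, 5, 2], [3, 0, 5, 1, 4, 3], [0, 4, 1, 3, 0, 4], [0, 0, 2, 0, 2, 1, 4, 3],
   [1, 1, 2, 0, 2, 0, 4, 3], [1, 2, 0, 3, 0, 5, 2], [2, 0, 3, 5, 2], [2, 5, 0, 2, 1, 4, 2], [1, 1, 3, 1, 2, 0, 5, 2], [0, 3, 1, 5, 0, 4, 3], [4, 0, 3, 1, 4], [1, 3, 4, 1, 2, 1, 4, 3],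
   [3, 1, 2, 1, 5, 2], [4, 0, 2, 0, 3, 0, 0, 4], [5, 0, 0, 4, 0, 4, 2, 2], [5, 1, 1, 4, 0, 3, 4, 2], [5, 0, 2, 1, 2, 0, 3, 4, 2], [0, 0, 5, 2], [0, 3, 0, 2, 1, 5, 2], [5, 2, 1, 2, 0, 2, 4],
   [3, 0, 2, 5, 2], [3, 4, 0, 2, 0, 4, 3], [1, 3, 0, 2, 0, 5, 2], [0, 0, 2, 0, 3, 0, 5, 2], [1, 1, 2, 0, 3, 5, 2], [1, 2, 0, 3, 1, 5, 2], [2, 0, 2, 1, 4, 3], [0, 2, 0, 2, 0, 4, 3],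
   [0, 0, 2, 1, 3, 1, 5, 2], [0, 2, 1, 3, 5, 2], [2, 1, 3, 0, 5, 2], [1, 2, 1, 2, 0, 4, 3], [1, 1, 2, 1, 2, 1, 4, 3], [3, 5], [2, 0, 5, 0, 2, 0, 4, 2], [4, 1, 4, 1, 2, 0, 4],
   [0, 5, 1, 2, 0, 4], [2, 0, 5, 1, 2, 0, 3, 4], [3, 0, 0, 3, 1, 2, 1, 5], [0, 3, 0, 2, 0, 3, 5], [1, 3, 0, 3, 0, 2, 5], [0, 0, 3, 0, 5], [3, 0, 3, 1, 2, 5], [5, 1, 3, 1, 2, 0, 4],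
   [2, 0, 4, 0, 4, 2], [1, 3, 0, 0, 5], [2, 1, 3, 1, 3, 1, 5], [3, 0, 2, 1, 3, 0, 5], [5, 0, 3, 0, 2, 1, 4], [2, 1, 4, 1, 4, 2], [0, 3, 1, 1, 5], [2, 0, 3, 0, 3, 0, 5],
   [3, 1, 2, 0, 3, 1, 5], [3, 1, 1, 3, 0, 2, 0, 5], [1, 3, 1, 2, 1, 3, 5], [0, 3, 1, 3, 1, 2, 5], [1, 1, 3, 1, 5], [3, 1, 3, 0, 2, 5], [3, 0, 2, 0, 3, 1, 1, 5], [5, 1, 3, 1, 3, 0, 4],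
   [0, 3, 1, 5], [0, 5, 2, 0, 2, 1, 4, 3], [3, 1, 2, 0, 3, 5], [3, 1, 3, 0, 2, 0, 5], [4, 1, 1, 2, 0, 0, 4], [1, 5, 1, 2, 0, 4], [3, 0, 3, 0, 2, 1, 5], [1, 1, 3, 5],
   [1, 3, 0, 2, 0, 3, 5], [5, 2, 0, 2, 0, 2, 4], [3, 0, 5], [5, 2, 1, 2, 0, 4, 3], [0, 3, 0, 2, 1, 3, 5], [1, 1, 2, 0, 4, 0, 4, 2], [0, 0, 3, 0, 0, 5], [0, 2, 0, 4, 1, 4, 2],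
   [2, 0, 5, 1, 1, 4, 2], [1, 2, 0, 5, 0, 0, 4, 2], [2, 0, 3, 1, 3, 0, 5], [1, 3, 1, 1, 5], [2, 1, 4, 0, 4, 2], [0, 2, 1, 5, 0, 0, 4, 2], [3, 1, 2, 1, 3, 1, 5], [1, 2, 1, 5, 0, 0, 4, 2],
   [2, 1, 5, 1, 1, 4, 2], [0, 2, 1, 4, 1, 4, 2], [0, 0, 3, 1, 1, 5], [1, 1, 2, 1, 4, 0, 4, 2], [2, 1, 3, 1, 3, 0, 5], [3, 0, 2, 1, 3, 1, 1, 5], [3, 1, 2, 1, 3, 5], [1, 5, 2, 1, 2, 1, 2, 4],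
   [1, 3, 1, 5], [4, 1, 1, 3, 1, 2, 0, 4], [0, 3, 5], [2, 0, 3, 0, 3, 1, 1, 5], [5, 1, 2, 1, 2, 4, 2], [5, 0, 2, 1, 4], [0, 3, 0, 3, 1, 2, 5], [1, 3, 0, 2, 1, 3, 5],
   [3, 0, 0, 3, 0, 2, 1, 5], [3, 0, 3, 0, 2, 5], [1, 1, 3, 0, 5], [0, 3, 0, 2, 1, 3, 0, 5], [0, 5, 1, 3, 1, 2, 0, 4], [5, 3, 1, 2, 0, 4, 2], [3, 0, 0, 5], [2, 5, 1, 2, 1, 4, 2],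
   [0, 2, 0, 5, 1, 1, 4, 2], [2, 0, 5, 0, 0, 4, 2], [1, 2, 0, 4, 0, 4, 2], [1, 1, 3, 0, 0, 5], [0, 0, 2, 0, 4, 1, 4, 2], [1, 3, 1, 2, 0, 3, 1, 5], [1, 5, 0, 3, 0, 2, 1, 4], [5, 3, 0, 2, 1, 4, 2],
   [3, 1, 1, 5], [2, 5, 0, 2, 0, 4, 2], [1, 3, 1, 3, 0, 2, 5], [0, 3, 1, 2, 0, 3, 5], [3, 1, 1, 3, 1, 2, 0, 5], [3, 1, 3, 1, 2, 5], [0, 0, 3, 1, 5], [4, 0, 0, 3, 0, 2, 1, 4],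
   [1, 3, 5], [2, 1, 3, 1, 3, 0, 0, 5], [5, 0, 2, 0, 2, 4, 2], [5, 1, 2, 0, 4], [2, 0, 3, 0, 3, 1, 5], [3, 1, 2, 0, 3, 0, 0, 5], [3, 0, 2, 0, 3, 5], [0, 5, 2, 0, 2, 0, 2, 4],
   [0, 3, 0, 5], [3, 1, 2, 1, 3, 0, 0, 5], [5, 0, 3, 0, 3, 1, 4], [1, 3, 0, 5], [1, 5, 2, 1, 2, 0, 4, 3], [3, 0, 2, 1, 3, 5], [2, 1, 3, 0, 3, 1, 5], [0, 3, 0, 0, 5],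
   [2, 0, 4, 1, 4, 2], [1, 2, 0, 5, 1, 1, 4, 2], [3, 0, 2, 0, 3, 0, 5], [0, 0, 2, 1, 4, 1, 4, 2], [1, 1, 3, 1, 1, 5], [1, 2, 1, 4, 0, 4, 2], [2, 1, 5, 0, 0, 4, 2], [0, 2, 1, 5, 1, 1, 4, 2],
   [0, 3, 1, 2, 1, 3, 5], [5, 2, 1, 2, 1, 2, 4], [3, 1, 5], [5, 2, 0, 2, 1, 4, 3], [1, 3, 1, 2, 0, 3, 5], [3, 0, 3, 1, 2, 1, 5], [4, 0, 0, 2, 1, 1, 4], [0, 5, 0, 2, 1, 4],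
   [3, 1, 3, 1, 2, 0, 5], [0, 0, 3, 5], [5, 3, 3], [1, 4, 0, 2, 0, 4, 2], [2, 1, 4, 1, 3, 0, 0, 4], [3, 1, 4, 1, 2, 0, 4], [1, 4, 1, 2, 0, 3, 4], [3, 0, 0, 3, 1, 4],
   [3, 1, 3, 1, 3, 0, 2, 4], [5, 0, 3, 1, 2, 0, 4, 2], [1, 3, 0, 0, 3, 0, 4], [0, 0, 4, 0, 0, 4, 2], [3, 1, 3, 1, 1, 4], [1, 5, 1, 4, 2], [1, 1, 3, 1, 3, 0, 0, 4], [1, 4, 2, 0, 2, 0, 4],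
   [0, 3, 1, 3, 0, 4], [3, 0, 3, 0, 0, 4], [0, 5, 0, 4, 2], [0, 0, 3, 0, 3, 1, 1, 4], [1, 1, 3, 0, 3, 0, 4], [1, 3, 0, 3, 1, 4], [3, 1, 1, 3, 0, 4], [3, 0, 3, 0, 3, 1, 2, 4],
   [5, 1, 3, 0, 2, 1, 4, 2], [0, 3, 1, 1, 3, 1, 4], [1, 1, 4, 1, 1, 4, 2], [0, 0, 5, 1, 4, 2], [0, 3, 1, 3, 0, 0, 4], [3, 1, 3, 1, 4], [1, 3, 1, 3, 0, 4], [2, 1, 2, 0, 2, 1, 4, 2],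
   [1, 5, 0, 4, 2], [3, 0, 3, 1, 1, 4], [0, 3, 0, 3, 0, 4], [1, 3, 4, 1, 2, 0, 4], [1, 1, 3, 0, 3, 0, 0, 4], [2, 1, 5, 0, 3, 4, 2], [2, 0, 3, 0, 5, 0, 4, 2], [1, 3, 1, 1, 3, 1, 4],
   [0, 4, 1, 1, 4, 2], [3, 1, 2, 0, 5, 1, 4, 2], [1, 4, 1, 2, 1, 4, 2], [5, 2, 1, 2, 1, 2, 0, 4], [3, 1, 3, 0, 2, 0, 3, 4], [5, 1, 1, 4, 1, 4, 3], [3, 3, 0, 4], [2, 4, 1, 3, 0, 0, 4],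
   [5, 3, 0, 4, 0, 0, 4], [3, 3, 1, 3, 1, 2, 0, 4], [4, 0, 0, 4, 2], [3, 3, 0, 3, 1, 2, 1, 4], [1, 4, 1, 1, 4, 2], [0, 3, 1, 1, 3, 0, 4], [2, 0, 3, 1, 5, 0, 4, 2], [2, 1, 5, 1, 3, 4, 2],
   [3, 1, 2, 1, 5, 1, 4, 2], [4, 1, 2, 0, 3, 4], [0, 5, 3, 3], [4, 0, 2, 0, 4, 2], [2, 1, 3, 0, 4, 0, 0, 4, 2], [0, 3, 1, 4, 1, 2, 0, 4], [1, 1, 4, 0, 0, 4, 2], [0, 3, 0, 0, 3, 1, 4],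
   [5, 0, 3, 0, 2, 0, 4, 2], [3, 1, 3, 0, 3, 0, 2, 4], [3, 0, 0, 3, 0, 4], [3, 4, 0, 2, 1, 4], [0, 3, 1, 3, 1, 1, 4], [5, 1, 4, 2], [1, 3, 1, 3, 0, 0, 4], [4, 2, 0, 2, 0, 4],
   [3, 0, 3, 1, 4], [0, 3, 0, 3, 0, 0, 4], [0, 0, 5, 0, 4, 2], [2, 0, 2, 0, 2, 0, 4, 2], [1, 3, 0, 3, 0, 4], [0, 4, 0, 0, 4, 2], [1, 3, 0, 0, 3, 1, 4], [2, 1, 3, 0, 5, 1, 4, 2],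
   [2, 0, 5, 0, 3, 4, 2], [3, 0, 2, 0, 5, 0, 4, 2], [3, 1, 3, 0, 4], [1, 3, 1, 3, 1, 1, 4], [1, 1, 5, 1, 4, 2], [2, 1, 2, 1, 2, 1, 4, 2], [0, 3, 1, 3, 1, 4], [3, 4, 1, 2, 0, 4],
   [1, 3, 0, 3, 0, 0, 4], [5, 0, 4, 2], [0, 3, 0, 3, 1, 1, 4], [4, 2, 1, 2, 1, 4], [0, 0, 4, 1, 1, 4, 2], [1, 3, 1, 1, 3, 0, 4], [5, 1, 3, 1, 2, 1, 4, 2], [3, 0, 3, 1, 3, 1, 2, 4],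
   [3, 1, 1, 3, 1, 4], [4, 0, 2, 1, 3, 4], [1, 5, 3, 3], [4, 1, 2, 1, 4, 2], [2, 0, 3, 1, 4, 1, 1, 4, 2], [1, 3, 1, 4, 1, 2, 0, 4], [1, 1, 5, 0, 4, 2], [1, 3, 0, 3, 1, 1, 4],
   [3, 0, 3, 0, 4], [0, 3, 0, 3, 1, 4], [2, 0, 2, 1, 2, 0, 4, 2], [2, 4, 0, 3, 1, 1, 4], [5, 3, 1, 4, 1, 1, 4], [3, 3, 0, 3, 0, 2, 1, 4], [4, 1, 1, 4, 2], [3, 3, 1, 3, 0, 2, 0, 4],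
   [0, 4, 0, 2, 0, 4, 2], [5, 2, 0, 2, 0, 2, 1, 4], [3, 0, 3, 1, 2, 1, 3, 4], [5, 0, 0, 4, 0, 4, 3], [5, 2, 0, 4], [2, 0, 5, 1, 3, 4, 2], [2, 1, 3, 1, 5, 1, 4, 2], [0, 3, 0, 0, 3, 0, 4],
   [1, 4, 0, 0, 4, 2], [3, 0, 2, 1, 5, 0, 4, 2], [0, 5, 1, 4, 2], [3, 1, 3, 0, 0, 4], [1, 3, 1, 3, 1, 4], [1, 1, 3, 1, 3, 0, 4], [0, 0, 3, 1, 3, 1, 1, 4], [3, 5, 2],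
   [2, 1, 4, 0, 4, 0, 0, 4], [4, 1, 4, 1, 2, 0, 4, 2], [0, 5, 1, 2, 0, 4, 2], [4, 2, 1, 4, 1, 2, 0, 4], [3, 0, 5, 2], [5, 2, 1, 2, 0, 4], [0, 3, 0, 2, 1, 3, 5, 2], [1, 3, 0, 2, 0, 3, 5, 2],
   [2, 4, 0, 0, 4, 0, 4], [2, 0, 4, 3], [2, 4, 0, 4, 0, 0, 4], [0, 3, 0, 2, 1, 3, 0, 5, 2], [0, 5, 1, 3, 1, 2, 0, 4, 2], [4, 3, 0, 4, 1, 1, 4], [2, 1, 4, 3], [4, 3, 0, 3, 0, 0, 4],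
   [1, 3, 1, 2, 0, 3, 1, 5, 2], [1, 5, 0, 3, 0, 2, 1, 4, 2], [4, 3, 1, 4, 0, 0, 4], [3, 1, 5, 2], [5, 2, 0, 2, 1, 4], [1, 3, 1, 2, 0, 3, 5, 2], [0, 3, 1, 2, 1, 3, 5, 2], [5, 3, 1, 1, 3, 0, 4],
   [0, 3, 5, 2], [2, 0, 3, 0, 2, 1, 4, 3], [4, 0, 3, 0, 0, 4, 3], [5, 0, 2, 1, 4, 2], [2, 1, 3, 0, 2, 0, 4, 3], [2, 1, 3, 0, 2, 1, 4, 3], [0, 3, 0, 5, 2], [0, 5, 2, 1, 2, 0, 4],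
   [3, 1, 2, 0, 2, 0, 4, 3], [3, 0, 2, 0, 3, 5, 2], [3, 0, 2, 0, 3, 0, 5, 2], [2, 1, 3, 0, 3, 1, 5, 2], [0, 2, 0, 4, 3], [2, 0, 4, 1, 4, 2, 2], [3, 1, 2, 0, 2, 1, 4, 3], [3, 1, 2, 0, 3, 1, 5, 2],
   [5, 0, 3, 0, 2, 1, 4, 2], [2, 1, 4, 1, 4, 2, 2], [0, 2, 1, 4, 3], [2, 0, 3, 0, 3, 0, 5, 2], [0, 5, 2, 0, 2, 1, 4], [3, 1, 2, 0, 3, 5, 2], [3, 0, 2, 0, 2, 1, 4, 3], [1, 5, 2, 0, 4, 0, 4],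
   [0, 3, 1, 5, 2], [0, 0, 3, 5, 2], [3, 0, 3, 1, 2, 1, 5, 2], [4, 0, 0, 4, 1, 4, 3], [0, 5, 0, 2, 1, 4, 2], [3, 1, 3, 1, 2, 0, 5, 2], [0, 3, 0, 2, 0, 3, 5, 2], [1, 3, 4, 1, 3, 0, 4],
   [0, 0, 3, 0, 5, 2], [3, 5, 1, 4, 0, 4], [3, 0, 0, 3, 1, 2, 1, 5, 2], [0, 2, 0, 4, 1, 4, 2, 2], [2, 0, 2, 0, 3, 4, 3], [1, 2, 0, 2, 1, 3, 4, 3], [3, 1, 3, 1, 5, 0, 4, 3], [0, 0, 2, 0, 4, 3],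
   [0, 2, 1, 4, 1, 4, 2, 2], [0, 0, 2, 1, 4, 3], [3, 0, 3, 1, 5, 1, 4, 3], [1, 2, 1, 2, 1, 3, 4, 3], [2, 1, 2, 0, 3, 4, 3], [0, 3, 1, 2, 0, 3, 5, 2], [3, 1, 1, 3, 1, 2, 0, 5, 2], [5, 2, 0, 4, 0, 4],
   [0, 0, 3, 1, 5, 2], [1, 3, 5, 0, 4, 1, 4], [1, 1, 3, 5, 2], [3, 1, 3, 0, 2, 0, 5, 2], [4, 1, 1, 4, 0, 4, 3], [1, 5, 1, 2, 0, 4, 2], [3, 0, 3, 0, 2, 1, 5, 2], [1, 3, 0, 2, 1, 3, 5, 2],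
   [3, 0, 0, 3, 0, 2, 1, 5, 2], [3, 4, 1, 3, 0, 4], [1, 1, 3, 0, 5, 2], [0, 3, 5, 1, 4, 0, 4], [1, 2, 0, 4, 0, 4, 2, 2], [1, 1, 2, 0, 4, 3], [3, 1, 3, 0, 5, 0, 4, 3], [0, 2, 0, 2, 0, 3, 4, 3],
   [2, 0, 2, 1, 3, 4, 3], [1, 2, 1, 4, 0, 4, 2, 2], [2, 1, 2, 1, 3, 4, 3], [0, 2, 1, 2, 0, 3, 4, 3], [3, 0, 3, 0, 5, 1, 4, 3], [1, 1, 2, 1, 4, 3], [1, 3, 1, 2, 1, 3, 5, 2], [0, 5, 2, 0, 4, 0, 4],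
   [1, 1, 3, 1, 5, 2], [3, 5, 0, 4, 1, 4], [3, 1, 1, 3, 0, 2, 0, 5, 2], [1, 3, 5, 2], [2, 1, 3, 1, 2, 0, 4, 3], [4, 1, 3, 1, 1, 4, 3], [5, 1, 2, 0, 4, 2], [2, 0, 3, 1, 2, 1, 4, 3],
   [1, 5, 2, 1, 2, 0, 4], [3, 0, 2, 1, 3, 5, 2], [3, 1, 2, 1, 2, 0, 4, 3], [0, 3, 4, 1, 3, 0, 4], [1, 3, 0, 5, 2], [3, 0, 2, 1, 3, 0, 5, 2], [5, 1, 3, 1, 2, 0, 4, 2], [2, 0, 4, 0, 4, 2, 2],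
   [1, 2, 0, 4, 3], [2, 1, 3, 1, 3, 1, 5, 2], [3, 1, 2, 1, 3, 1, 5, 2], [2, 0, 3, 1, 3, 0, 5, 2], [1, 2, 1, 4, 3], [2, 1, 4, 0, 4, 2, 2], [3, 0, 2, 1, 2, 0, 4, 3], [2, 0, 3, 1, 2, 0, 4, 3],
   [1, 3, 1, 5, 2], [1, 5, 2, 0, 2, 1, 4], [3, 0, 2, 1, 2, 1, 4, 3], [3, 1, 2, 1, 3, 5, 2], [2, 4], [1, 4, 1, 4, 0, 0, 4], [0, 2, 1, 3, 1, 2, 0, 4], [1, 2, 1, 3, 0, 2, 0, 4],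
   [1, 4, 0, 3, 0, 0, 4], [3, 1, 2, 0, 2, 1, 4], [0, 2, 0, 4], [3, 0, 2, 0, 2, 1, 1, 4], [2, 0, 3, 0, 2, 4], [2, 1, 3, 0, 2, 0, 0, 4], [1, 2, 0, 2, 1, 3, 0, 4], [4, 1, 3, 1, 4, 0, 4],
   [3, 1, 5, 1, 3, 4], [2, 0, 2, 0, 3, 0, 4], [0, 0, 2, 0, 0, 4], [2, 0, 2, 1, 3, 0, 0, 4], [4, 0, 3, 0, 4, 1, 4], [3, 0, 5, 0, 3, 4], [2, 1, 2, 1, 3, 1, 4], [1, 1, 2, 1, 1, 4],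
   [3, 0, 2, 1, 2, 0, 4], [1, 2, 1, 4], [3, 1, 2, 1, 2, 0, 0, 4], [2, 1, 3, 1, 2, 4], [2, 0, 3, 1, 2, 1, 1, 4], [1, 2, 0, 2, 1, 3, 4], [0, 2, 0, 3, 0, 2, 4], [3, 1, 3, 1, 5, 0, 4],
   [2, 0, 2, 0, 3, 4], [0, 0, 2, 0, 4], [3, 0, 3, 0, 5, 0, 4], [0, 2, 0, 2, 0, 3, 0, 4], [1, 1, 2, 0, 0, 4], [2, 0, 2, 1, 3, 0, 4], [3, 1, 5, 0, 3, 4], [0, 3, 0, 5, 0, 3, 4],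
   [3, 0, 2, 1, 2, 4], [1, 2, 1, 1, 4], [3, 1, 2, 1, 2, 0, 4], [2, 1, 3, 1, 2, 1, 4], [1, 3, 0, 2, 0, 2, 0, 4], [5, 3, 1, 2, 1, 4, 3], [1, 2, 1, 3, 0, 2, 4], [0, 3, 0, 2, 1, 2, 0, 4],
   [2, 1, 4], [2, 0, 3, 0, 2, 1, 4], [2, 1, 3, 0, 2, 0, 4], [4, 0, 3, 0, 0, 4], [0, 2, 4], [4, 1, 4, 0, 0, 4], [3, 0, 2, 1, 2, 1, 4], [1, 2, 0, 0, 4],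
   [3, 1, 2, 1, 2, 4], [0, 3, 1, 5, 0, 3, 4], [2, 0, 3, 1, 2, 0, 4], [0, 3, 0, 2, 1, 2, 4], [2, 1, 1, 4], [1, 3, 0, 2, 0, 2, 4], [5, 2, 1, 2, 0, 4, 2], [3, 4, 0, 2, 0, 3, 4],
   [0, 5, 3, 1, 2, 1, 4, 3], [2, 1, 3, 0, 2, 4], [3, 1, 2, 0, 2, 0, 0, 4], [0, 2, 1, 4], [3, 0, 2, 0, 2, 0, 4], [3, 1, 3, 1, 4, 0, 0, 4], [4, 0, 0, 4, 1, 4], [0, 0, 2, 4],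
   [5, 0, 0, 3, 1, 4], [4, 1, 2, 0, 2, 1, 4], [3, 1, 3, 0, 5, 0, 4], [1, 2, 0, 3, 1, 2, 4], [0, 2, 0, 2, 0, 3, 4], [1, 1, 2, 0, 4], [2, 0, 2, 1, 3, 4], [3, 1, 2, 0, 2, 0, 4],
   [0, 2, 1, 1, 4], [3, 0, 2, 0, 2, 4], [1, 3, 0, 5, 1, 3, 4], [2, 1, 3, 0, 2, 1, 4], [3, 0, 3, 1, 5, 1, 4], [0, 2, 1, 3, 0, 2, 4], [1, 2, 1, 2, 1, 3, 4], [0, 0, 2, 1, 4],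
   [2, 1, 2, 0, 3, 4], [3, 0, 3, 0, 4, 1, 1, 4], [4, 1, 1, 4, 0, 4], [1, 1, 2, 4], [5, 1, 1, 3, 0, 4], [4, 0, 2, 1, 2, 0, 4], [1, 5, 3, 0, 2, 0, 4, 3], [2, 0, 3, 1, 2, 4],
   [3, 0, 2, 1, 2, 1, 1, 4], [1, 2, 0, 4], [3, 1, 2, 1, 2, 1, 4], [1, 3, 1, 2, 0, 2, 4], [2, 0, 0, 4], [0, 3, 1, 2, 1, 2, 4], [5, 2, 0, 2, 1, 4, 2], [3, 4, 1, 2, 1, 3, 4],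
   [0, 2, 1, 2, 0, 3, 4], [1, 2, 1, 3, 1, 2, 4], [3, 0, 3, 0, 5, 1, 4], [2, 1, 2, 1, 3, 4], [1, 1, 2, 1, 4], [2, 1, 3, 1, 2, 0, 4], [2, 0, 3, 1, 2, 1, 4], [4, 1, 3, 1, 1, 4],
   [1, 2, 4], [4, 0, 4, 1, 1, 4], [4, 0, 0, 3, 1, 2, 0, 4], [5, 3, 0, 2, 0, 4, 3], [2, 4, 1, 2, 0, 2, 4], [1, 3, 1, 2, 0, 2, 1, 4], [2, 0, 4], [1, 3, 1, 5, 1, 3, 4],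
   [3, 1, 2, 0, 2, 4], [0, 2, 0, 0, 4], [3, 0, 2, 0, 2, 1, 4], [2, 0, 3, 0, 2, 0, 4], [3, 1, 3, 1, 5, 1, 4], [2, 0, 2, 0, 3, 0, 0, 4], [0, 0, 2, 1, 1, 4], [2, 1, 2, 0, 3, 1, 4],
   [3, 0, 5, 1, 3, 4], [3, 5, 3], [3, 0, 5, 0, 4, 0, 0, 4], [0, 5, 1, 2, 0, 4, 3], [0, 5, 0, 2, 0, 2, 4], [2, 0, 5, 0, 2, 0, 4], [2, 0, 0, 4, 0, 4], [1, 1, 2, 0, 0, 4, 1, 4],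
   [0, 3, 1, 5, 0, 4, 2, 2], [1, 3, 1, 5, 3], [1, 3, 5, 0, 4, 0, 0, 4], [2, 1, 5, 0, 0, 4], [1, 2, 1, 4, 0, 4], [4, 1, 1, 2, 0, 4, 2], [0, 0, 2, 1, 4, 1, 4], [0, 2, 1, 5, 1, 1, 4],
   [2, 0, 5, 1, 1, 4], [0, 2, 0, 4, 1, 4], [4, 0, 0, 2, 1, 4, 2], [1, 1, 2, 0, 4, 0, 4], [1, 2, 0, 5, 0, 0, 4], [2, 1, 1, 4, 1, 4], [0, 0, 2, 1, 1, 4, 0, 4], [1, 3, 0, 5, 1, 4, 2, 2],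
   [0, 3, 0, 5, 3], [0, 3, 5, 1, 4, 1, 1, 4], [1, 3, 1, 1, 5, 3], [1, 5, 3, 0, 2, 1, 4], [3, 1, 2, 1, 3, 1, 5, 3], [0, 2, 1, 5, 0, 0, 4], [2, 1, 4, 0, 4], [3, 3, 0, 3, 1, 4, 2],
   [1, 2, 0, 4, 0, 4], [2, 0, 5, 0, 0, 4], [0, 2, 0, 5, 1, 1, 4], [0, 0, 2, 0, 4, 1, 4], [3, 0, 5, 1, 4, 2, 2], [0, 0, 3, 0, 5, 3], [1, 3, 0, 5, 0, 4, 2, 2], [0, 2, 1, 1, 4, 1, 4],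
   [1, 1, 2, 1, 1, 4, 0, 4], [5, 0, 2, 1, 4, 3], [5, 1, 2, 1, 2, 4], [0, 2, 0, 5, 0, 2, 0, 4], [0, 3, 5, 3], [1, 5, 1, 2, 1, 2, 1, 4, 2], [4, 2, 1, 3, 0, 0, 4], [3, 1, 5, 3],
   [3, 5, 0, 4, 0, 0, 4], [0, 2, 0, 0, 4, 0, 4], [1, 2, 0, 0, 4, 1, 4], [1, 1, 3, 0, 5, 3], [3, 0, 5, 0, 4, 2, 2], [0, 0, 2, 1, 1, 4, 1, 4], [1, 2, 1, 1, 4, 0, 4], [0, 3, 0, 5, 1, 4, 2, 2],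
   [5, 1, 1, 3, 1, 4, 2], [3, 0, 3, 1, 2, 1, 5, 3], [0, 0, 3, 5, 3], [5, 1, 2, 1, 2, 1, 4, 2], [0, 5, 0, 2, 1, 4, 3], [0, 3, 1, 5, 3], [1, 3, 1, 5, 1, 4, 2, 2], [0, 0, 2, 0, 0, 4, 0, 4],
   [2, 0, 0, 4, 1, 4], [0, 4, 2, 1, 3, 0, 0, 4], [5, 3, 0, 2, 1, 4], [1, 1, 2, 1, 5, 1, 1, 4], [0, 0, 2, 1, 5, 0, 0, 4], [2, 5, 0, 2, 0, 4], [3, 1, 1, 5, 3], [2, 0, 4, 0, 4],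
   [0, 2, 0, 5, 0, 0, 4], [3, 0, 2, 1, 3, 0, 5, 3], [1, 2, 5, 1, 2, 1, 4], [1, 3, 0, 0, 5, 3], [0, 0, 3, 1, 5, 3], [3, 1, 5, 1, 4, 2, 2], [1, 1, 2, 0, 0, 4, 0, 4], [0, 2, 0, 0, 4, 1, 4],
   [1, 3, 1, 5, 0, 4, 2, 2], [2, 1, 4, 1, 4], [1, 2, 1, 5, 1, 1, 4], [3, 1, 2, 0, 3, 1, 5, 3], [0, 2, 5, 0, 2, 0, 4], [0, 3, 1, 1, 5, 3], [5, 3, 1, 2, 0, 4], [0, 0, 2, 0, 5, 0, 0, 4],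
   [1, 1, 2, 0, 5, 1, 1, 4], [2, 5, 1, 2, 1, 4], [3, 0, 0, 5, 3], [1, 3, 0, 5, 3], [0, 3, 0, 5, 0, 4, 2, 2], [1, 1, 2, 1, 1, 4, 1, 4], [2, 1, 1, 4, 0, 4], [1, 2, 1, 5, 0, 2, 0, 4],
   [5, 0, 0, 3, 0, 4, 2], [3, 1, 3, 0, 2, 0, 5, 3], [1, 1, 3, 5, 3], [5, 0, 2, 0, 2, 0, 4, 2], [1, 5, 1, 2, 0, 4, 3], [0, 3, 0, 0, 5, 3], [0, 5, 3, 1, 2, 0, 4], [3, 0, 2, 0, 3, 0, 5, 3],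
   [1, 2, 0, 5, 1, 1, 4], [2, 0, 4, 1, 4], [2, 1, 5, 0, 2, 0, 4], [3, 0, 5, 3], [3, 5, 1, 4, 1, 1, 4], [1, 2, 1, 1, 4, 1, 4], [0, 2, 1, 1, 4, 0, 4], [5, 1, 2, 0, 4, 3],
   [5, 0, 2, 0, 2, 4], [1, 2, 0, 5, 0, 2, 0, 4], [1, 3, 5, 3], [0, 5, 0, 2, 0, 2, 0, 4, 2], [3, 1, 5, 0, 4, 2, 2], [1, 1, 3, 1, 5, 3], [0, 3, 1, 5, 1, 4, 2, 2], [1, 2, 0, 0, 4, 0, 4],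
   [0, 0, 2, 0, 0, 4, 1, 4], [3, 3, 1, 3, 0, 4, 2], [0, 2, 1, 4, 1, 4], [2, 1, 5, 1, 1, 4], [1, 2, 1, 5, 0, 0, 4], [1, 1, 2, 1, 4, 0, 4], [2, 5, 2], [3, 0, 5, 1, 3, 0, 0, 4],
   [1, 4, 0, 2, 0, 4, 3], [0, 5, 1, 4, 0, 0, 4, 2], [4, 3, 1, 4, 0, 2, 0, 4], [3, 1, 2, 0, 2, 5, 2], [3, 0, 2, 0, 2, 1, 5, 2], [1, 3, 1, 4, 0, 3, 4, 2], [0, 5, 1, 4, 3], [2, 0, 3, 0, 2, 0, 5, 2],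
   [2, 1, 2, 0, 3, 5, 2], [0, 4, 3, 0, 3, 0, 4], [0, 0, 2, 1, 5, 2], [3, 0, 3, 1, 4, 0, 4, 2], [1, 2, 1, 2, 1, 3, 5, 2], [2, 0, 2, 1, 3, 5, 2], [1, 2, 5, 1, 4, 0, 4], [1, 1, 2, 0, 5, 2],
   [3, 1, 3, 0, 4, 1, 4, 2], [0, 2, 0, 2, 0, 3, 5, 2], [3, 0, 2, 1, 2, 5, 2], [3, 1, 2, 1, 2, 0, 5, 2], [0, 3, 0, 4, 1, 3, 4, 2], [1, 5, 0, 4, 3], [2, 1, 3, 1, 2, 1, 5, 2], [1, 2, 0, 5, 2],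
   [1, 4, 3, 1, 2, 1, 4], [3, 0, 2, 1, 5, 0, 4, 3], [3, 1, 2, 1, 2, 1, 5, 2], [2, 5, 1, 4, 0, 4], [5, 2, 0, 3, 0, 0, 4], [5, 0, 4, 3], [5, 2, 1, 4, 0, 0, 4], [0, 3, 0, 2, 1, 2, 5, 2],
   [1, 3, 0, 2, 0, 2, 5, 2], [4, 0, 2, 0, 4, 3], [5, 0, 4, 1, 1, 4, 2], [2, 1, 3, 0, 2, 0, 5, 2], [0, 2, 5, 2], [2, 0, 3, 0, 2, 1, 5, 2], [3, 1, 4, 0, 3, 4, 2], [0, 0, 5, 1, 4, 3],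
   [5, 0, 3, 0, 4, 1, 4, 2], [4, 0, 2, 0, 4, 1, 4, 2], [2, 1, 2, 0, 2, 1, 4, 3], [1, 1, 2, 1, 5, 2], [1, 2, 4, 0, 3, 1, 4], [2, 1, 2, 1, 3, 5, 2], [0, 2, 1, 2, 0, 3, 5, 2], [3, 0, 3, 0, 4, 0, 4, 2],
   [1, 1, 5, 1, 4, 3], [3, 1, 4, 1, 3, 4, 2], [2, 1, 2, 1, 2, 1, 4, 3], [4, 0, 2, 1, 4, 1, 4, 2], [3, 0, 3, 0, 4, 1, 4, 2], [2, 4, 0, 3, 1, 4], [3, 0, 2, 1, 2, 0, 5, 2], [3, 1, 2, 1, 5, 1, 4, 3],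
   [2, 0, 3, 1, 5, 0, 4, 3], [1, 2, 1, 5, 2], [4, 3, 1, 2, 1, 4], [5, 2, 1, 2, 0, 2, 1, 4], [3, 4, 0, 2, 0, 2, 0, 4], [3, 4, 0, 0, 3, 0, 4], [2, 0, 5, 2], [0, 5, 0, 4, 3],
   [1, 3, 0, 4, 0, 3, 4, 2], [3, 1, 2, 0, 2, 0, 5, 2], [3, 0, 2, 0, 2, 5, 2], [2, 1, 3, 0, 2, 1, 5, 2], [4, 1, 1, 3, 0, 4, 2], [4, 0, 2, 0, 2, 0, 3, 4], [0, 0, 2, 5, 2], [5, 0, 2, 1, 2, 0, 4, 2],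
   [5, 1, 1, 4, 0, 4, 2], [0, 0, 5, 0, 4, 3], [3, 0, 4, 0, 3, 4, 2], [2, 0, 2, 0, 2, 0, 4, 3], [4, 1, 2, 0, 4, 0, 4, 2], [3, 1, 3, 1, 4, 0, 4, 2], [4, 0, 0, 3, 1, 4, 2], [4, 1, 2, 1, 2, 1, 3, 4],
   [1, 1, 2, 5, 2], [5, 1, 2, 0, 2, 1, 4, 2], [5, 0, 0, 4, 1, 4, 2], [1, 5, 1, 4, 3], [0, 3, 1, 4, 1, 3, 4, 2], [3, 0, 2, 1, 2, 1, 5, 2], [3, 1, 2, 1, 2, 5, 2], [2, 0, 3, 1, 2, 0, 5, 2],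
   [4, 3, 0, 2, 0, 4], [5, 2, 0, 2, 1, 2, 0, 4], [3, 4, 1, 2, 1, 2, 1, 4], [1, 4, 3, 0, 3, 0, 4], [2, 1, 5, 2], [2, 4, 1, 3, 0, 4], [3, 1, 2, 0, 2, 1, 5, 2], [3, 0, 2, 0, 5, 0, 4, 3],
   [2, 1, 3, 0, 5, 1, 4, 3], [0, 2, 0, 5, 2], [0, 2, 1, 5, 2], [0, 4, 3, 0, 2, 0, 4], [3, 1, 2, 0, 5, 1, 4, 3], [3, 0, 2, 0, 2, 0, 5, 2], [4, 3, 0, 3, 0, 4], [0, 0, 2, 0, 5, 2],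
   [0, 2, 4, 1, 3, 0, 4], [2, 0, 2, 0, 3, 5, 2], [1, 2, 0, 2, 1, 3, 5, 2], [3, 1, 3, 1, 4, 1, 4, 2], [3, 0, 4, 1, 3, 4, 2], [1, 1, 5, 0, 4, 3], [3, 1, 3, 0, 4, 0, 4, 2], [4, 1, 2, 1, 4, 0, 4, 2],
   [2, 0, 2, 1, 2, 0, 4, 3], [4, 1, 2, 1, 4, 3], [5, 1, 4, 0, 0, 4, 2], [2, 0, 3, 1, 2, 1, 5, 2], [1, 2, 5, 2], [2, 1, 3, 1, 2, 0, 5, 2], [5, 2, 1, 3, 1, 1, 4], [5, 1, 4, 3],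
   [3, 5, 1, 3, 0, 0, 4], [1, 3, 1, 2, 0, 2, 5, 2], [0, 3, 1, 2, 1, 2, 5, 2], [4, 3], [1, 4, 0, 4, 0, 0, 4], [2, 1, 4, 1, 2, 0, 4, 3], [3, 0, 5, 1, 2, 0, 4, 2], [0, 5, 1, 2, 0, 3, 4, 2],
   [0, 3, 0, 0, 3, 0, 5, 2], [1, 2, 0, 3, 4, 3], [3, 0, 2, 1, 4, 1, 4, 2, 2], [2, 0, 3, 1, 4, 3], [1, 1, 2, 0, 3, 0, 4, 3], [0, 0, 3, 1, 2, 0, 4, 3], [0, 3, 1, 3, 1, 5, 2], [3, 1, 3, 0, 5, 2],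
   [1, 3, 1, 2, 1, 4, 3], [1, 1, 4, 0, 4, 2, 2], [1, 1, 3, 0, 2, 1, 4, 3], [1, 3, 0, 3, 0, 5, 2], [3, 0, 3, 1, 5, 2], [0, 3, 0, 2, 0, 4, 3], [0, 0, 4, 1, 4, 2, 2], [1, 3, 1, 1, 3, 1, 5, 2],
   [0, 2, 1, 3, 4, 3], [3, 1, 2, 0, 4, 0, 4, 2, 2], [2, 1, 3, 0, 4, 3], [0, 0, 2, 1, 3, 1, 4, 3], [1, 3, 1, 1, 3, 0, 5, 2], [0, 2, 1, 3, 0, 4, 3], [1, 1, 2, 1, 3, 1, 4, 3], [3, 1, 1, 3, 1, 5, 2],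
   [5, 0, 0, 2, 0, 4], [2, 1, 2, 1, 1, 5, 0, 4], [2, 0, 2, 1, 1, 5, 1, 4], [5, 0, 2, 1, 3, 4, 2], [0, 4, 3], [4, 0, 4, 0, 0, 4], [5, 1, 1, 3, 1, 2, 1, 4], [2, 4, 1, 2, 0, 4, 3],
   [1, 2, 0, 3, 0, 4, 3], [3, 3, 1, 3, 1, 2, 0, 5, 2], [2, 0, 3, 4, 3], [0, 3, 1, 3, 0, 5, 2], [3, 1, 2, 1, 4, 3], [1, 4, 0, 4, 2, 2], [1, 1, 3, 1, 2, 0, 4, 3], [1, 5, 2, 1, 2, 1, 4, 2],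
   [0, 3, 0, 3, 1, 5, 2], [0, 0, 3, 0, 2, 0, 4, 3], [1, 1, 4, 1, 4, 2, 2], [1, 3, 0, 2, 1, 4, 3], [3, 0, 3, 0, 5, 2], [1, 1, 3, 0, 2, 0, 4, 3], [1, 4, 1, 4, 2, 2], [3, 0, 2, 1, 4, 3],
   [0, 3, 0, 3, 0, 5, 2], [1, 3, 5, 0, 2, 1, 4, 2], [0, 0, 2, 1, 3, 0, 4, 3], [1, 2, 1, 3, 1, 4, 3], [0, 3, 1, 1, 3, 1, 5, 2], [2, 2, 1, 5, 1, 4], [3, 1, 1, 3, 0, 5, 2], [3, 0, 3, 1, 2, 1, 3, 5, 2],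
   [4, 1, 1, 4, 1, 4], [0, 0, 4, 3], [0, 4, 0, 4, 0, 0, 4], [4, 0, 3, 0, 0, 3, 1, 4], [0, 2, 4, 1, 2, 0, 4, 3], [2, 0, 3, 0, 4, 3], [3, 0, 2, 0, 4, 1, 4, 2, 2], [0, 2, 0, 3, 4, 3],
   [1, 3, 0, 0, 3, 1, 5, 2], [0, 3, 1, 2, 1, 4, 3], [4, 0, 4, 2, 2], [1, 3, 1, 2, 0, 4, 3], [5, 2, 1, 2, 1, 4, 2], [3, 5, 1, 2, 0, 4, 2], [0, 0, 3, 1, 2, 1, 4, 3], [0, 4, 0, 4, 2, 2],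
   [3, 1, 2, 0, 4, 3], [1, 3, 1, 3, 1, 5, 2], [0, 3, 5, 1, 2, 0, 4, 2], [1, 3, 0, 2, 0, 4, 3], [4, 1, 4, 2, 2], [0, 3, 0, 2, 1, 4, 3], [5, 2, 0, 2, 0, 4, 2], [3, 5, 0, 2, 1, 4, 2],
   [1, 1, 2, 1, 3, 0, 4, 3], [2, 1, 3, 1, 4, 3], [3, 1, 2, 1, 4, 0, 4, 2, 2], [1, 2, 1, 3, 4, 3], [0, 3, 1, 1, 3, 0, 5, 2], [3, 1, 3, 0, 2, 0, 3, 5, 2], [4, 0, 0, 4, 0, 4], [1, 1, 4, 3],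
   [3, 5, 2, 1, 2, 0, 4], [4, 1, 3, 1, 1, 3, 0, 4], [1, 1, 2, 0, 3, 1, 4, 3], [0, 2, 0, 3, 0, 4, 3], [1, 3, 0, 0, 3, 0, 5, 2], [2, 2, 0, 5, 0, 4], [3, 0, 0, 3, 1, 5, 2], [0, 3, 0, 0, 3, 1, 5, 2],
   [1, 2, 0, 3, 1, 4, 3], [0, 0, 2, 0, 3, 0, 4, 3], [3, 0, 0, 3, 0, 5, 2], [2, 2, 1, 5, 0, 4], [1, 3, 1, 3, 0, 5, 2], [1, 1, 3, 1, 2, 1, 4, 3], [0, 0, 4, 0, 4, 2, 2], [0, 3, 1, 2, 0, 4, 3],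
   [3, 1, 3, 1, 5, 2], [1, 3, 0, 3, 1, 5, 2], [3, 0, 2, 0, 4, 3], [0, 4, 1, 4, 2, 2], [0, 0, 3, 0, 2, 1, 4, 3], [0, 5, 2, 0, 2, 0, 4, 2], [5, 0, 0, 3, 0, 2, 0, 4], [1, 2, 1, 3, 0, 4, 3],
   [0, 2, 1, 3, 1, 4, 3], [3, 3, 0, 3, 0, 2, 1, 5, 2], [2, 1, 3, 4, 3], [2, 0, 2, 0, 0, 5, 1, 4], [2, 1, 2, 0, 0, 5, 0, 4], [5, 1, 2, 0, 3, 4, 2], [1, 4, 3], [4, 1, 4, 1, 1, 4]]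

/-- words which reach all the elements which fix the first vector -/
def W2 : List (List ℕ) :=
  [[], [2, 2, 0, 3, 3, 3, 0, 2, 2, 0, 3, 2, 2, 0, 3, 3, 2, 0, 3, 0], [2, 2, 0, 3, 3, 3, 0, 2, 2, 2, 0, 3, 3, 2, 0, 3, 2, 0, 3, 0], [3, 0, 2, 2, 2, 0, 3, 3, 2, 0, 3, 2, 2, 0, 3, 3, 2, 0, 3, 0], [3, 0, 2, 2, 2, 0, 3, 3, 2, 2, 0, 3, 3, 2, 0, 3, 2, 0, 3, 0], [2, 2, 0, 3, 3, 2, 2, 0, 3, 3], [2, 2, 0, 3, 3, 3, 0, 2, 2, 0, 3, 2, 2, 0, 3, 3, 2, 0, 3], [2, 2, 0, 3, 3, 3, 0, 2, 2, 2, 0, 3, 3, 2, 0, 3, 2, 0, 3],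
   [3, 0, 2, 2, 2, 0, 3, 3, 2, 0, 3, 2, 2, 0, 3, 3, 2, 0, 3], [3, 0, 2, 2, 2, 0, 3, 3, 2, 2, 0, 3, 3, 2, 0, 3, 2, 0, 3], [2, 2, 0, 3, 3, 0], [3, 0, 2, 2, 0, 3, 2, 2, 0, 3, 3, 2, 0, 3, 0], [3, 0, 2, 2, 2, 0, 3, 3, 2, 0, 3, 2, 0, 3, 0], [2, 0, 3, 2, 0, 3, 2, 2, 0, 3, 3, 3, 0, 2, 0], [2, 0, 3, 2, 2, 0, 3, 3, 3, 0, 2, 2, 0, 3, 0], [2, 2, 0, 3, 3],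
   [3, 0, 2, 2, 0, 3, 2, 2, 0, 3, 3, 2, 0, 3], [3, 0, 2, 2, 2, 0, 3, 3, 2, 0, 3, 2, 0, 3], [2, 0, 3, 2, 0, 3, 2, 2, 0, 3, 3, 3, 0, 2], [2, 0, 3, 2, 2, 0, 3, 3, 3, 0, 2, 2, 0, 3], [0], [3, 0, 2, 0, 2, 0, 3, 2, 0, 3], [2, 0, 3, 0, 3, 0, 2, 2, 0, 3], [3, 0, 2, 2, 0, 3, 0, 2, 0, 3],
   [2, 0, 3, 2, 0, 3, 0, 3, 0, 2], [3, 0, 2, 2, 0, 3], [3, 0, 2, 2, 2, 0, 3, 3, 2, 0, 3, 2, 2, 0, 3, 3, 0], [3, 0, 2, 2, 2, 0, 3, 3, 2, 2, 0, 3, 3, 2, 0, 3, 0], [2, 2, 0, 3, 3, 2, 2, 0, 3, 3, 3, 0, 2, 2, 0, 3, 0], [2, 2, 0, 3, 3, 3, 0, 2, 2, 0, 3, 2, 2, 0, 3, 3, 0], [2, 2, 0, 3, 3, 3, 0, 2, 2, 0, 3, 2, 2, 0, 3, 3], [2, 2, 0, 3, 3, 3, 0, 2, 2, 2, 0, 3, 3, 2, 0, 3],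
   [3, 0, 2, 2, 2, 0, 3, 3, 2, 0, 3, 2, 2, 0, 3, 3], [3, 0, 2, 2, 2, 0, 3, 3, 2, 2, 0, 3, 3, 2, 0, 3], [2, 2, 0, 3, 3, 2, 2, 0, 3, 3, 3, 0, 2, 2, 0, 3], [2, 0, 3, 2, 2, 0, 3, 3, 3, 0, 2, 0], [2, 2, 0, 3, 3, 3, 0, 2, 2, 0, 3, 0], [3, 0, 2, 2, 0, 3, 2, 2, 0, 3, 3, 0], [3, 0, 2, 2, 2, 0, 3, 3, 2, 0, 3, 0], [2, 2, 0, 3, 3, 3, 0, 2, 0, 2, 0, 3],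
   [0, 3, 0, 2, 2, 0, 3, 0], [2, 0, 3, 2, 2, 0, 3, 3, 3, 0, 2], [2, 2, 0, 3, 3, 3, 0, 2, 2, 0, 3], [3, 0, 2, 2, 0, 3, 2, 2, 0, 3, 3], [3, 0, 2, 2, 2, 0, 3, 3, 2, 0, 3], [2, 0, 3, 2, 0, 3, 0, 2, 0, 3, 2, 0, 3], [0, 3, 0, 2, 2, 0, 3], [3, 0, 2, 0, 2, 0, 3],
   [2, 0, 3, 0, 3, 0, 2], [3, 0, 2, 2, 0, 3, 0], [3, 0, 2], [2, 2, 0, 3, 3, 2, 2, 0, 3, 3, 3, 0, 2, 0], [2, 2, 0, 3, 3, 0, 3, 0, 2, 2, 2, 0, 3, 3], [2, 2, 0, 3, 3, 3, 0, 2, 2, 2, 0, 3, 3, 0], [0, 3, 0, 2, 2, 2, 0, 3, 3, 2, 2, 0, 3, 3], [2, 2, 0, 3, 3, 3, 0, 2, 2, 2, 0, 3, 3],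
   [0, 3, 0, 2, 2, 2, 0, 3, 3, 0], [3, 0, 2, 2, 2, 0, 3, 3, 2, 2, 0, 3, 3], [2, 2, 0, 3, 3, 2, 2, 0, 3, 3, 3, 0, 2], [2, 2, 0, 3, 3, 0, 3, 0, 2, 0], [2, 0, 3, 2, 0, 3, 2, 2, 0, 3, 3, 2, 0, 3, 0], [2, 2, 0, 3, 3, 0, 3, 0, 2], [2, 2, 0, 3, 3, 3, 0, 2, 0], [0, 3, 0, 2, 2, 2, 0, 3, 3],
   [3, 0, 2, 2, 2, 0, 3, 3, 0], [0, 3, 0, 2, 0], [3, 0, 2, 2, 2, 0, 3, 3], [2, 0, 3, 2, 0, 3, 2, 2, 0, 3, 3, 2, 0, 3], [2, 0, 3, 2, 2, 0, 3, 3, 2, 0, 3, 2, 0, 3], [2, 2, 0, 3, 3, 3, 0, 2], [2, 2, 0, 3, 3, 0, 3, 0, 2, 2, 2, 0, 3, 3, 0], [2, 0, 3, 2, 0, 3, 0, 2, 0, 3],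
   [0, 3, 0, 2], [3, 0, 2, 0], [2, 0, 3, 0, 2, 0, 3, 2, 0, 3], [2, 0, 3, 2, 0, 3], [2, 0, 3, 2, 2, 0, 3, 3, 2, 0, 3, 2, 2, 0, 3, 3, 0], [2, 0, 3, 2, 2, 0, 3, 3, 2, 2, 0, 3, 3, 2, 0, 3, 0], [2, 2, 0, 3, 3, 2, 0, 3, 2, 2, 0, 3, 3, 2, 0, 3, 0], [2, 2, 0, 3, 3, 2, 2, 0, 3, 3, 2, 0, 3, 2, 0, 3, 0],
   [2, 0, 3, 2, 2, 0, 3, 3, 2, 2, 0, 3, 3, 2, 0, 3], [2, 2, 0, 3, 3, 2, 0, 3, 2, 2, 0, 3, 3, 2, 0, 3], [2, 2, 0, 3, 3, 2, 2, 0, 3, 3, 2, 0, 3, 2, 0, 3], [2, 0, 3, 2, 0, 3, 2, 2, 0, 3, 3, 2, 2, 0, 3, 3], [2, 0, 3, 2, 2, 0, 3, 3, 2, 0, 3, 2, 2, 0, 3, 3], [2, 0, 3, 2, 2, 0, 3, 3, 0, 2, 0, 3], [2, 0, 3, 2, 0, 3, 2, 2, 0, 3, 3, 0], [2, 0, 3, 2, 2, 0, 3, 3, 2, 0, 3, 0],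
   [2, 2, 0, 3, 3, 2, 0, 3, 2, 0, 3, 0], [2, 2, 0, 3, 3, 0, 2, 0, 3, 2, 0, 3], [2, 0, 3, 2, 2, 0, 3, 3, 2, 0, 3], [2, 2, 0, 3, 3, 2, 0, 3, 2, 0, 3], [2, 0, 3, 0, 2, 0, 3, 0], [0, 2, 0, 3, 0, 2, 0, 3], [2, 0, 3, 2, 0, 3, 2, 2, 0, 3, 3], [2, 0, 3, 0, 2, 0, 3],
   [3, 0, 2, 2, 0, 3, 0, 3, 0, 2], [2, 0, 3, 2, 0, 3, 0], [0, 2, 0, 3, 2, 0, 3], [3, 0, 2, 0, 3, 0, 2, 2, 0, 3], [2, 0, 3], [2, 2, 0, 3, 3, 2, 0, 3, 2, 2, 0, 3, 3, 0], [2, 2, 0, 3, 3, 2, 2, 0, 3, 3, 2, 0, 3, 0], [0, 2, 0, 3, 2, 2, 0, 3, 3, 2, 2, 0, 3, 3],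
   [2, 2, 0, 3, 3, 0, 2, 0, 3, 2, 2, 0, 3, 3], [2, 2, 0, 3, 3, 2, 0, 3, 2, 2, 0, 3, 3], [2, 2, 0, 3, 3, 2, 2, 0, 3, 3, 2, 0, 3], [0, 2, 0, 3, 2, 2, 0, 3, 3, 0], [2, 2, 0, 3, 3, 0, 2, 0, 3, 0], [2, 0, 3, 2, 2, 0, 3, 3, 2, 2, 0, 3, 3], [3, 0, 2, 2, 2, 0, 3, 3, 0, 3, 0, 2], [0, 2, 0, 3, 2, 2, 0, 3, 3],
   [2, 2, 0, 3, 3, 0, 2, 0, 3], [2, 0, 3, 2, 2, 0, 3, 3, 0], [2, 2, 0, 3, 3, 2, 0, 3, 0], [0, 2, 0, 3, 0], [3, 0, 2, 0, 3, 0, 2, 0], [2, 0, 3, 2, 2, 0, 3, 3], [2, 2, 0, 3, 3, 2, 0, 3], [0, 3, 0, 2, 0, 3, 0, 2],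
   [3, 0, 2, 0, 3, 0, 2], [2, 0, 3, 0], [2, 2, 0, 3, 3, 2, 0, 3, 2, 2, 0, 3, 3, 2, 2, 0, 3, 3], [2, 2, 0, 3, 3, 2, 2, 0, 3, 3, 2, 0, 3, 2, 2, 0, 3, 3], [0, 2, 0, 3]]

theorem hlet1 : lettersK 6 W1 = true := by decide +kernel
theorem hlet2 : lettersK 6 W2 = true := by decide +kernel
theorem hc1 : incK (W1.map (fun w => colCode 5 (wmatT 5 0 2 Lm w) 0)) = true := by decide +kernel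
theorem hc2 : incK (W2.map (fun w => colCode 5 (wmatT 5 0 2 Lm w) 2)) = true := by decide +kernel
theorem hfix : fixK 5 0 2 Lm W2 = true := by decide +kernel
theorem hN : W1.length * W2.length = 5 ^ 3 * ((5 ^ 2 - 1) * (5 ^ 3 + 1)) := by decide +kernel

theorem b_pow : (SU35Pres.v 2) ^ 24 = 1 := by
  have h := SU35Pres.hbase [2, 2, 2, 2, 2, 2, 2, 2, 2, 2, 2, 2, 2, 2, 2, 2, 2, 2, 2, 2, 2, 2, 2, 2] (by decide)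
  simpa [wprod, pow_succ, mul_assoc] using h

theorem hcard : Finite SU35Pres.Grp ∧ Nat.card SU35Pres.Grp ≤ 5 ^ 3 * ((5 ^ 2 - 1) * (5 ^ 3 + 1)) := by
  have h := card_closure_word_le SU35Pres.v [2] 24 (by decide) (by
    rw [wprod_cons, wprod_nil, mul_one]
    exact b_pow)
  have h2 := card_le_of_index SU35x15750.Hs 15750 24 (by decide) SU35x15750.rho_index h.1 h.2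
  refine ⟨h2.1, h2.2.trans (by norm_num)⟩

end Cfsg.Agent.Lib.Helper12.SU3S.Q5
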